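import Cfsg.Agent.Lib.KnownB.SU3Pres.Model
import Cfsg.Agent.Lib.KnownB.Pres.FieldChoice
import Cfsg.Agent.Lib.KnownB.SLPres.Pair

/-!
# Field elements for the Borel subgroup
-/

set_option autoImplicit false
set_option linter.unusedSectionVars false

open CfsgLib.Classical CfsgLib.SUPres

namespace CfsgLib.SU3Pres

variable {F : Type*} [Field F] [Fintype F] {σ : F →+* F} (hc : IsConjugation σ) {w : F} (hw : w ≠ 0)
  (hgen : ∀ x : F, x ≠ 0 → ∃ e : ℕ, w ^ e = x) {q : ℕ}

include hc

theorem card_fixK (hσ : ∀ x, σ x = x ^ q) (hF : Fintype.card F = q ^ 2) : Nat.card (fixK σ) = q := by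
  classical
  have hq := two_le_of_card_sq hF
  let e : (fixK σ)ˣ ≃ fixedUnits σ :=
    { toFun := fun u => ⟨Units.map (fixK σ).subtype.toMonoidHom u, (u : fixK σ).2⟩
      invFun := fun x => Units.mk0 ⟨(x.1 : F), x.2⟩ fun e => x.1.ne_zero (congrArg Subtype.val e)
      left_inv := fun u => Units.ext (Subtype.ext rfl)
      right_inv := fun x => Subtype.ext (Units.ext rfl) }
  haveI := Fintype.ofFinite (fixK σ)
  have h := Nat.card_congr e
  rw [Nat.card_units, (frob_cards hF hσ hc).1] at h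
  have h0 : 0 < Nat.card (fixK σ) := Nat.card_pos
  omega

/-- The prime power. -/
theorem exists_prime_pow (hσ : ∀ x, σ x = x ^ q) (hF : Fintype.card F = q ^ 2) :
    ∃ p e : ℕ, p.Prime ∧ 1 ≤ e ∧ q = p ^ e ∧ CharP F p ∧ CharP (fixK σ) p := by
  obtain ⟨p, hp⟩ := CharP.exists F
  haveI := Fact.mk (CharP.char_is_prime F p)
  haveI hK : CharP (fixK σ) p := RingHom.charP (fixK σ).subtype Subtype.coe_injective p
  haveI := Fintype.ofFinite (fixK σ)
  obtain ⟨n, hp', hn⟩ := FiniteField.card (fixK σ) p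
  exact ⟨p, n, hp', n.pos, by rw [← hn, ← Nat.card_eq_fintype_card, card_fixK hc hσ hF], hp, hK⟩

include hw hgen

theorem w_notFixed : σ w ≠ w := fun h => by
  obtain ⟨x, hx⟩ := hc.exists_not_fixed
  have hx0 : x ≠ 0 := fun e => hx (by simp [e])
  obtain ⟨e, rfl⟩ := hgen x hx0
  exact hx (by rw [map_pow, h])

/-- A generator of the elements of norm one. -/
theorem norm_one_gen : w / σ w ≠ 1 ∧ σ (w / σ w) * (w / σ w) = 1 ∧
    ∀ ξ : F, σ ξ * ξ = 1 → ∃ k : ℕ, (w / σ w) ^ k = ξ := by
  have hs : σ w ≠ 0 := (map_ne_zero σ).2 hw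
  refine ⟨fun h => w_notFixed hc hw hgen (by rw [div_eq_one_iff_eq hs] at h; exact h.symm), ?_, fun ξ hξ => ?_⟩
  · rw [map_div₀, hc.invol]; field_simp
  · obtain ⟨η, hη0, hη⟩ : ∃ η : F, η ≠ 0 ∧ η = ξ * σ η := by
      by_cases h1 : ξ + 1 = 0
      · obtain ⟨δ, hδ, hδt⟩ := hc.exists_trace_zero
        refine ⟨δ, hδ, ?_⟩
        linear_combination hδt - σ δ * h1
      · refine ⟨ξ + 1, h1, ?_⟩
        rw [map_add, map_one]
        linear_combination -hξ
    obtain ⟨k, rfl⟩ := hgen η hη0
    refine ⟨k, ?_⟩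
    rw [map_pow] at hη
    rw [div_pow, div_eq_iff (pow_ne_zero _ hs)]
    exact hη

theorem lam_notFixed (hσ : ∀ x, σ x = x ^ q) (hF : Fintype.card F = q ^ 2) (hq : q ≠ 2) :
    σ (lamM σ w) ≠ lamM σ w := fun h => by
  have hs : σ w ≠ 0 := (map_ne_zero σ).2 hw
  obtain ⟨-, -, hall⟩ := norm_one_gen hc hw hgen
  set r := w / σ w with hr
  have h3 : r ^ 3 = 1 := by
    simp only [lamM, map_div₀, map_mul, hc.invol] at h
    rw [hr, div_pow, div_eq_one_iff_eq (pow_ne_zero _ hs)]
    field_simp at h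
    linear_combination h
  have hcard := (frob_cards hF hσ hc).2
  have : Nat.card (normHom σ).ker ≤ 3 := by
    rw [show (3 : ℕ) = Nat.card (Fin 3) by simp]
    refine Nat.card_le_card_of_surjective (fun i : Fin 3 => (⟨(Units.mk0 r (div_ne_zero hw hs)) ^ i.val,
      pow_mem (show Units.mk0 r (div_ne_zero hw hs) ∈ (normHom σ).ker from MonoidHom.mem_ker.2 (Units.ext (by
        show r * σ r = 1
        rw [hr, map_div₀, hc.invol]; field_simp))) _⟩ : (normHom σ).ker)) fun u => ?_
    obtain ⟨k, hk⟩ := hall (u.1 : F) (by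
      have := congrArg Units.val (MonoidHom.mem_ker.1 u.2)
      rw [mul_comm]; exact this)
    refine ⟨⟨k % 3, Nat.mod_lt _ (by norm_num)⟩, Subtype.ext (Units.ext ?_)⟩
    rw [Units.val_pow_eq_pow_val, Units.val_mk0, ← hk]
    conv_rhs => rw [← Nat.mod_add_div k 3, pow_add, pow_mul, h3, one_pow, mul_one]
  have := two_le_of_card_sq hF
  omega

omit hw hgen in
/-- Coordinates over the fixed field. -/
theorem exists_coords {l : F} (hl : σ l ≠ l) (y : F) :
    ∃ a b : fixK σ, y = a + b * l ∧ ∀ a' b' : fixK σ, y = a' + b' * l → a' = a ∧ b' = b := by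
  have hd : l - σ l ≠ 0 := sub_ne_zero.2 (Ne.symm hl)
  have hb : σ ((y - σ y) / (l - σ l)) = (y - σ y) / (l - σ l) := by
    rw [map_div₀, map_sub, map_sub, hc.invol, hc.invol, ← neg_sub y, ← neg_sub l, neg_div_neg_eq]
  have ha : σ (y - (y - σ y) / (l - σ l) * l) = y - (y - σ y) / (l - σ l) * l := by
    rw [map_sub, map_mul, hb]
    field_simp
    ring
  refine ⟨⟨_, ha⟩, ⟨_, hb⟩, by simp, fun a' b' h => ?_⟩
  have e : y - σ y = (b' : F) * (l - σ l) := by
    rw [h, map_add, map_mul, show σ (a' : F) = a' from a'.2, show σ (b' : F) = b' from b'.2]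
    ring
  have hb' : (b' : F) = (y - σ y) / (l - σ l) := by rw [e, mul_div_cancel_right₀ _ hd]
  refine ⟨Subtype.ext ?_, Subtype.ext hb'⟩
  show (a' : F) = y - (y - σ y) / (l - σ l) * l
  rw [← hb']
  linear_combination -h

omit hw hgen in
theorem adjoin_of_pow {p : ℕ} [Fact p.Prime] {L : Type*} [Field L] [Algebra (ZMod p) L] {s : L}
    (h : ∀ x : L, x ≠ 0 → ∃ e : ℕ, s ^ e = x) : Algebra.adjoin (ZMod p) ({s} : Set L) = ⊤ := by
  refine eq_top_iff.2 fun x _ => ?_
  by_cases hx : x = 0
  · rw [hx]; exact zero_mem _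
  · obtain ⟨e, rfl⟩ := h x hx
    exact pow_mem (Algebra.subset_adjoin (Set.mem_singleton s)) e

omit hw hgen in
/-- In odd characteristic: a trace zero element with a multiplier, its successor also a multiplier. -/
theorem exists_odd_pair (hσ : ∀ x, σ x = x ^ q) (hF : Fintype.card F = q ^ 2) {p e : ℕ} (hp : p.Prime) (hp2 : p ≠ 2)
    (he : 2 ≤ e) (hqe : q = p ^ e) [Algebra (ZMod p) (fixK σ)] :
    ∃ (x : F) (α α' : F) (n : fixK σ), α ≠ 0 ∧ α' ≠ 0 ∧ σ x = -x ∧ x ≠ 0 ∧ lamM σ α = x ∧ lamM σ α' = 1 + x ∧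
      (n : F) = α * σ α ∧ Algebra.adjoin (ZMod p) ({n} : Set (fixK σ)) = ⊤ ∧ α' * σ α' = 1 + α * σ α := by
  classical
  haveI := Fact.mk hp
  haveI := Fintype.ofFinite (fixK σ)
  have h20 : (2 : F) ≠ 0 := by
    refine Ring.two_ne_zero fun h2 => ?_
    have := FiniteField.even_card_iff_char_two.1 h2
    rw [hF, hqe] at this
    have hodd : Odd p := hp.odd_of_ne_two hp2
    have := Nat.odd_iff.1 ((hodd.pow (n := e)).pow (n := 2))
    omega
  obtain ⟨δ, hδ, hδt⟩ := hc.exists_trace_zero
  have hδσ : σ δ = -δ := eq_neg_of_add_eq_zero_right hδt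
  let M : Finset F := Finset.univ.filter fun η => η * σ η = 1
  have hM : M.card = q + 1 := by
    rw [← (frob_cards hF hσ hc).2, Nat.card_eq_fintype_card, Fintype.card_subtype]
    refine (Finset.card_bij (fun (u : Fˣ) _ => (u : F)) ?_ (fun a _ b _ h => Units.ext h) ?_).symm
    · intro u hu
      simp only [Finset.mem_filter, Finset.mem_univ, true_and, MonoidHom.mem_ker] at hu
      simp only [M, Finset.mem_filter, Finset.mem_univ, true_and]
      exact congrArg Units.val hu
    · intro η hη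
      simp only [M, Finset.mem_filter, Finset.mem_univ, true_and] at hη
      refine ⟨Units.mk0 η fun e => by simp [e] at hη, ?_, rfl⟩
      simp only [Finset.mem_filter, Finset.mem_univ, true_and, MonoidHom.mem_ker]
      exact Units.ext hη
  let Bad : Finset (fixK σ) := (Finset.Icc 1 (e / 2)).biUnion fun d =>
    (Polynomial.X ^ p ^ d - Polynomial.X : Polynomial (fixK σ)).roots.toFinset
  have hBad : Bad.card ≤ ∑ d ∈ Finset.Icc 1 (e / 2), p ^ d := by
    refine Finset.card_biUnion_le.trans (Finset.sum_le_sum fun d hd => ?_)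
    refine (Multiset.toFinset_card_le _).trans ((Polynomial.card_roots' _).trans (le_of_eq ?_))
    exact FiniteField.X_pow_card_sub_X_natDegree_eq _ (Nat.one_lt_pow (by simp at hd; omega) hp.one_lt)
  let g : F → F := fun ξ => (1 - ξ) / (1 + ξ)
  obtain ⟨η, hηM, hne1, hneg, hgood⟩ : ∃ η ∈ M, η ^ 3 ≠ 1 ∧ η ^ 3 ≠ -1 ∧
      ∀ n ∈ Bad, -g (η ^ 3) ^ 2 ≠ (n : F) := by
    by_contra hall
    push Not at hall
    let Sq : Finset F := (Bad.biUnion fun n => Finset.univ.filter fun y : F => -y ^ 2 = (n : F))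
    have hSq : Sq.card ≤ Bad.card * 2 := Finset.card_biUnion_le_card_mul _ _ _ fun n _ => by
      by_cases hy : ∃ y : F, -y ^ 2 = (n : F)
      · obtain ⟨y0, hy0⟩ := hy
        refine (Finset.card_le_card (t := {y0, -y0}) fun y hy => ?_).trans Finset.card_le_two
        rw [Finset.mem_filter] at hy
        have : y ^ 2 = y0 ^ 2 := by linear_combination hy0 - hy.2
        rcases eq_or_eq_neg_of_sq_eq_sq _ _ this with h | h <;> simp [h]
      · push Not at hy
        rw [Finset.card_eq_zero.2 (Finset.filter_eq_empty_iff.2 fun y _ => hy y)]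
        omega
    let I := M.image fun η => η ^ 3
    have hI : I.card ≤ Sq.card + 2 := by
      let T : Finset F := (I.erase 1).erase (-1)
      have hT : T.card ≤ Sq.card := Finset.card_le_card_of_injOn g (fun ξ hξ => by
          simp only [T, I, Finset.mem_coe, Finset.mem_erase, Finset.mem_image] at hξ
          obtain ⟨hn, h1, η, hη, rfl⟩ := hξ
          obtain ⟨n, hn', e⟩ := hall η hη h1 hn
          simp only [Sq, Finset.mem_coe, Finset.mem_biUnion, Finset.mem_filter, Finset.mem_univ, true_and]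
          exact ⟨n, hn', e⟩) (fun a ha b hb hab => by
          simp only [T, Finset.mem_coe, Finset.mem_erase] at ha hb
          have h1 : 1 + a ≠ 0 := fun h => ha.1 (by linear_combination h)
          have h2 : 1 + b ≠ 0 := fun h => hb.1 (by linear_combination h)
          simp only [g] at hab
          field_simp at hab
          exact mul_left_cancel₀ h20 (by linear_combination -hab))
      have e1 : I.card ≤ (I.erase 1).card + 1 := by
        have := Finset.pred_card_le_card_erase (s := I) (a := (1 : F)); omega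
      have e2 : (I.erase 1).card ≤ T.card + 1 := by
        have := Finset.pred_card_le_card_erase (s := I.erase 1) (a := (-1 : F))
        show _ ≤ ((I.erase 1).erase (-1)).card + 1
        omega
      omega
    have hm : 2 * ∑ d ∈ Finset.Icc 1 (e / 2), p ^ d ≤ p ^ (e / 2 + 1) :=
      CfsgLib.SL2Pres.sum_pow_le (by have := hp.two_le; omega) _
    have hp3 : 3 ≤ p := by have := hp.two_le; omega
    by_cases h3 : 3 ∣ q + 1
    · have hfib : M.card ≤ 3 * I.card := Finset.card_le_mul_card_image _ 3 fun y _ => by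
        refine (Finset.card_le_card (t := (Polynomial.X ^ 3 - Polynomial.C y : Polynomial F).roots.toFinset)
          fun η hη => ?_).trans ((Multiset.toFinset_card_le _).trans ((Polynomial.card_roots' _).trans
            (by rw [Polynomial.natDegree_X_pow_sub_C])))
        rw [Finset.mem_filter] at hη
        rw [Multiset.mem_toFinset, Polynomial.mem_roots (Polynomial.X_pow_sub_C_ne_zero (by norm_num) _)]
        simp [hη.2]
      have hp5 : 5 ≤ p := by
        by_contra h5
        have : p = 3 := by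
          interval_cases p
          · rfl
          · exact absurd hp (by decide)
        subst this
        rw [hqe, show e = (e - 1) + 1 by omega, pow_succ] at h3
        omega
      have he3 : 3 ≤ e := by
        by_contra h
        obtain rfl : e = 2 := by omega
        rw [hqe] at h3
        obtain ⟨k, hk⟩ := h3
        have hmod : p % 3 = 0 ∨ p % 3 = 1 ∨ p % 3 = 2 := by omega
        rcases hmod with hm3 | hm3 | hm3 <;>
          · have : (p ^ 2 + 1) % 3 = 0 := by omega
            rw [Nat.add_mod, Nat.pow_mod, hm3] at this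
            norm_num at this
      have hlarge : 5 * p ^ (e / 2 + 1) ≤ p ^ e := by
        calc 5 * p ^ (e / 2 + 1) ≤ p * p ^ (e / 2 + 1) := Nat.mul_le_mul_right _ hp5
          _ = p ^ (e / 2 + 2) := (pow_succ' _ _).symm
          _ ≤ _ := Nat.pow_le_pow_right hp.pos (by omega)
      have : 5 ≤ p ^ (e / 2 + 1) := hp5.trans (Nat.le_self_pow (by omega) _)
      omega
    · have hinj : I.card = M.card := Finset.card_image_of_injOn fun a ha b hb hab => by
        simp only [M, Finset.mem_coe, Finset.mem_filter, Finset.mem_univ, true_and] at ha hb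
        have hb0 : b ≠ 0 := fun e => by simp [e] at hb
        have h1 : (a / b) ^ 3 = 1 := by
          rw [div_pow, div_eq_one_iff_eq (pow_ne_zero _ hb0)]; exact hab
        have h2 : (a / b) ^ (q + 1) = 1 := by
          rw [pow_succ', ← hσ, map_div₀, div_mul_div_comm, ha, hb, div_one]
        have := (pow_gcd_eq_one (m := 3) (n := q + 1)).2 ⟨h1, h2⟩
        rw [(Nat.Prime.coprime_iff_not_dvd Nat.prime_three).2 h3, pow_one, div_eq_one_iff_eq hb0] at this
        exact this
      rcases (show e = 2 ∨ 3 ≤ e by omega) with rfl | he3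
      · norm_num at hm hBad
        have : 3 * p ≤ p * p := Nat.mul_le_mul_right p hp3
        rw [pow_two] at hqe
        omega
      · have hlarge : 3 * p ^ (e / 2 + 1) ≤ p ^ e := by
          calc 3 * p ^ (e / 2 + 1) ≤ p * p ^ (e / 2 + 1) := Nat.mul_le_mul_right _ hp3
            _ = p ^ (e / 2 + 2) := (pow_succ' _ _).symm
            _ ≤ _ := Nat.pow_le_pow_right hp.pos (by omega)
        have : 3 ≤ p ^ (e / 2 + 1) := hp3.trans (Nat.le_self_pow (by omega) _)
        omega
  simp only [M, Finset.mem_filter, Finset.mem_univ, true_and] at hηM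
  set ξ := η ^ 3 with hξ
  have hη0 : η ≠ 0 := fun e => by simp [e] at hηM
  have hσξ : σ ξ = ξ⁻¹ := by rw [hξ, map_pow, ← inv_pow, eq_inv_of_mul_eq_one_right hηM]
  have hξ0 : ξ ≠ 0 := pow_ne_zero _ hη0
  have h1ξ : 1 + ξ ≠ 0 := fun h => hneg (by linear_combination h)
  have h1ξ' : 1 + ξ⁻¹ ≠ 0 := fun h => h1ξ (by field_simp at h; linear_combination h)
  set x := g ξ with hxdef
  have hxσ : σ x = -x := by
    show σ ((1 - ξ) / (1 + ξ)) = -((1 - ξ) / (1 + ξ))
    rw [map_div₀, map_sub, map_add, map_one, hσξ, ← neg_div, div_eq_div_iff h1ξ' h1ξ]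
    field_simp
    ring
  have hx0 : x ≠ 0 := by
    refine div_ne_zero (fun h => hne1 ?_) h1ξ
    linear_combination -h
  -- multipliers
  have scale : ∀ a : F, a ≠ 0 → ∀ z : F, z ≠ 0 → σ (z / lamM σ a) = z / lamM σ a →
      ∃ α : F, α ≠ 0 ∧ lamM σ α = z := fun a ha z hz hk => by
    have hl : lamM σ a ≠ 0 := div_ne_zero (mul_ne_zero ((map_ne_zero σ).2 ha) ((map_ne_zero σ).2 ha)) ha
    refine ⟨a * (z / lamM σ a), mul_ne_zero ha (div_ne_zero hz hl), ?_⟩
    rw [lamM_mul, show lamM σ (z / lamM σ a) = z / lamM σ a by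
      rw [show lamM σ (z / lamM σ a) = σ (z / lamM σ a) * σ (z / lamM σ a) / (z / lamM σ a) from rfl, hk,
        mul_div_cancel_right₀ _ (div_ne_zero hz hl)],
      mul_div_cancel₀ _ hl]
  obtain ⟨α, hα, hαx⟩ := scale δ hδ x hx0 (by
    simp only [lamM, map_div₀, map_mul, hxσ, hc.invol, hδσ, map_neg]
    field_simp)
  have hη1 : 1 + η ≠ 0 := fun h => hneg (by rw [hξ, show η = -1 by linear_combination h]; ring)
  have hση : σ η = η⁻¹ := eq_inv_of_mul_eq_one_right hηM
  have hη1' : 1 + η⁻¹ ≠ 0 := fun h => hη1 (by field_simp at h; linear_combination h)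
  have hz1 : 1 + x ≠ 0 := by
    show 1 + (1 - ξ) / (1 + ξ) ≠ 0
    rw [one_add_div h1ξ, show 1 + ξ + (1 - ξ) = (2 : F) by ring]
    exact div_ne_zero h20 h1ξ
  obtain ⟨α', hα', hαx'⟩ := scale (1 + η) hη1 (1 + x) hz1 (by
    have ea : 1 + η⁻¹ = (1 + η) / η := by field_simp; ring
    have eb : 1 + η⁻¹ ^ 3 = (1 + η ^ 3) / η ^ 3 := by field_simp; ring
    have h13 : 1 + η ^ 3 ≠ 0 := h1ξ
    have hl : lamM σ (1 + η) = (1 + η) / η ^ 2 := by
      simp only [lamM, map_add, map_one, hση, ea]
      field_simp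
    have hzv : 1 + x = 2 / (1 + η ^ 3) := by
      show 1 + (1 - ξ) / (1 + ξ) = _
      rw [hξ]
      field_simp
      ring
    rw [hl, hzv]
    simp only [map_div₀, map_add, map_one, map_pow, map_ofNat, hση, ea, eb]
    field_simp)
  have hnorm : α * σ α = -x ^ 2 := by
    have := congrArg (fun z => σ z * z) hαx
    simp only [hxσ] at this
    rw [show σ (lamM σ α) * lamM σ α = α * σ α by
      have := (map_ne_zero σ).2 hα
      simp only [lamM, map_div₀, map_mul, hc.invol]; field_simp] at this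
    rw [this]; ring
  let n : fixK σ := ⟨α * σ α, hc.norm_fixed α⟩
  refine ⟨x, α, α', n, hα, hα', hxσ, hx0, hαx, hαx', rfl, ?_, ?_⟩
  · refine CfsgLib.SL2Pres.adjoin_eq_top_of_not_fixed (n := e) (by rw [card_fixK hc hσ hF, hqe]) fun d h1 h2 hd => ?_
    refine hgood n ?_ ?_
    · simp only [Bad, Finset.mem_biUnion, Finset.mem_Icc, Multiset.mem_toFinset]
      refine ⟨d, ⟨h1, by omega⟩, ?_⟩
      rw [Polynomial.mem_roots (FiniteField.X_pow_card_sub_X_ne_zero _ (Nat.one_lt_pow (by omega) hp.one_lt))]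
      simp [hd]
    · exact hnorm.symm
  · have := congrArg (fun z => σ z * z) hαx'
    simp only [map_add, map_one, hxσ] at this
    rw [show σ (lamM σ α') * lamM σ α' = α' * σ α' by
      have := (map_ne_zero σ).2 hα'
      simp only [lamM, map_div₀, map_mul, hc.invol]; field_simp] at this
    rw [this, hnorm]; ring

end CfsgLib.SU3Pres
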