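import Cfsg.Agent.Lib.KnownB.SU3Pres.Spec

/-!
# The relations of the Borel subgroup in the three kinds of fields
-/

set_option autoImplicit false
set_option linter.unusedSectionVars false

open Module CfsgLib.Classical CfsgLib.Classical.SUUnipotent CfsgLib.KnownA.MinIndexU3 CfsgLib.Perm.Quad.SL2
open CfsgLib.SLPres CfsgLib.SL2Pres CfsgLib.SUPres Multiplicative

namespace CfsgLib.SU3Pres

/-- The word of the torus element. -/
abbrev wH : FreeGroup (Fin 2) := FreeGroup.of 0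

/-- The word of the root element. -/
abbrev wU : FreeGroup (Fin 2) := FreeGroup.of 1

/-- The word saying that two elements commute. -/
def comW {P : Type*} [Group P] (x y : P) : P := x * y * x⁻¹ * y⁻¹

variable {F : Type*} [Field F] [Fintype F] {V : Type*} [AddCommGroup V] [Module F V] [FiniteDimensional F V]
  {σ : F →+* F} {B : V →ₛₗ[σ] V →ₗ[F] F} {q : ℕ} (C : U3 B q) (f : Fr B) {δ : F} (hδ : δ ≠ 0) (hδσ : σ δ = -δ)
  {β₀ : F} (hβ₀ : Adm C 1 β₀) (W : Fˣ) (hW : ∀ a : Fˣ, ∃ e : ℕ, W ^ e = a)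
  (hl : σ (lamM σ (W : F)) ≠ lamM σ W)

omit [Fintype F] in
theorem nK_pow (hc : IsConjugation σ) (a : F) (n : ℕ) : nK hc (a ^ n) = nK hc a ^ n :=
  Subtype.ext (by simp [nK_val, mul_pow, map_pow])

include C hW in
theorem exists_exp {a : F} (ha : a ≠ 0) : ∃ i : ℕ, (W : F) ^ i = a := by
  obtain ⟨e, he⟩ := hW (Units.mk0 a ha)
  exact ⟨e, by rw [← Units.val_pow_eq_pow_val, he]; rfl⟩

include hδ hβ₀ hW hl

/-- The case of a prime. -/
theorem spec_prime (hp : q.Prime) :
    ∃ (R : List (FreeGroup (Fin 2))) (Cl : List ℕ), R.length + Cl.length ≤ 9 ∧ Spec C f hδσ W β₀ R Cl := by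
  classical
  obtain ⟨p, e, hp', he, hqe, hcF, hcK⟩ := exists_prime_pow C.herm.conj C.frob C.card
  obtain rfl : e = 1 := by
    by_contra h
    exact Nat.Prime.not_prime_pow (show 2 ≤ e by omega) (hqe ▸ hp)
  rw [pow_one] at hqe
  subst hqe
  haveI := Fact.mk hp
  letI : Algebra (ZMod q) F := ZMod.algebra F q
  set l := lamM σ (W : F) with hldef
  have hcardK : Nat.card (fixK σ) = q := card_fixK C.herm.conj C.frob C.card
  haveI : Fintype (fixK σ) := Fintype.ofFinite _
  let ι : ZMod q →+* fixK σ := ZMod.castHom dvd_rfl (fixK σ)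
  have hι : Function.Surjective ι := by
    refine ((Fintype.bijective_iff_injective_and_card _).2 ⟨ι.injective, ?_⟩).2
    rw [ZMod.card, ← Nat.card_eq_fintype_card, hcardK]
  have hK : ∀ k : fixK σ, (k : F) ∈ Set.range (algebraMap (ZMod q) F) := fun k => by
    obtain ⟨c, rfl⟩ := hι k
    exact ⟨c, DFunLike.congr_fun (RingHom.ext_zmod (algebraMap (ZMod q) F) ((fixK σ).subtype.comp ι)) c⟩
  have htop : Algebra.adjoin (ZMod q) ({l} : Set F) = ⊤ := by
    refine eq_top_iff.2 fun y _ => ?_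
    obtain ⟨a, b, rfl, -⟩ := exists_coords C.herm.conj hl y
    obtain ⟨ca, hca⟩ := hK a
    obtain ⟨cb, hcb⟩ := hK b
    rw [← hca, ← hcb]
    exact add_mem (Subalgebra.algebraMap_mem _ _)
      (mul_mem (Subalgebra.algebraMap_mem _ _) (Algebra.subset_adjoin rfl))
  let pb := PowerBasis.ofAdjoinEqTop (Algebra.IsIntegral.isIntegral (R := ZMod q) l) htop
  have hgen : pb.gen = l := PowerBasis.ofAdjoinEqTop_gen _ _
  have hdim : pb.dim = 2 := by
    have h1 := pb.finrank
    have h2 := Module.natCard_eq_pow_finrank (K := ZMod q) (V := F)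
    rw [Nat.card_eq_fintype_card, C.card, Nat.card_zmod, h1] at h2
    exact (Nat.pow_right_injective hp.two_le h2).symm
  refine ⟨[wU ^ q, comW wU (wH * wU * wH⁻¹),
    (wH ^ pb.dim * wU * (wH ^ pb.dim)⁻¹) * (wordOn pb wU wH (pb.gen ^ pb.dim))⁻¹], [0], by simp, ?_, ?_, ?_⟩
  · obtain ⟨Ψ, hΨ1, hΨh⟩ := quot_hom C f hδ hδσ hβ₀ W
    intro r hr
    refine mem_of_quot C f hδσ W ?_
    set H := QuotientGroup.mk' (zB C f hδσ).range (hB C f W)
    have he := pow_act Ψ hΨh
    have hw := eval_wordOn (pb := pb) Ψ hΨ1 (a := H) (fun x => by rw [hgen]; exact hΨh x)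
    simp only [List.mem_cons, List.not_mem_nil, or_false] at hr
    rcases hr with rfl | rfl | rfl <;>
      simp only [comW, map_mul, map_inv, map_pow, map_wordOn, FreeGroup.lift_apply_of, Matrix.cons_val_zero,
        Matrix.cons_val_one, Matrix.cons_val_fin_one]
    · rw [← hΨ1, ← map_pow, ← ofAdd_nsmul, nsmul_eq_mul, mul_one,
        (CharP.cast_eq_zero_iff F q q).2 dvd_rfl, ofAdd_zero, map_one]
    · refine word_of_commute ?_
      rw [← hΨ1, hΨh]
      exact commute_hom Ψ _ _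
    · rw [mul_inv_eq_one, ← hw, ← hΨ1, he, hgen, mul_one]
  · intro Q _ h u hR
    simp only [List.forall_mem_cons, List.forall_mem_nil, comW, map_mul, map_inv, map_pow, map_wordOn,
      FreeGroup.lift_apply_of, Matrix.cons_val_zero, Matrix.cons_val_one, Matrix.cons_val_fin_one] at hR
    obtain ⟨h1, h2, h3, -⟩ := hR
    have hc01 := commute_of_word h2
    have hcomm : ∀ i j : Fin pb.dim, i ≠ j →
        Commute (h ^ (i : ℕ) * u * (h ^ (i : ℕ))⁻¹) (h ^ (j : ℕ) * u * (h ^ (j : ℕ))⁻¹) := fun i j hij => by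
      have hi := i.2
      have hj := j.2
      have hne : (i : ℕ) ≠ j := Fin.val_ne_of_ne hij
      rcases (show (i : ℕ) = 0 ∧ (j : ℕ) = 1 ∨ (i : ℕ) = 1 ∧ (j : ℕ) = 0 by omega) with ⟨ei, ej⟩ | ⟨ei, ej⟩
      · simpa [ei, ej] using hc01
      · simpa [ei, ej] using hc01.symm
    obtain ⟨φ, hφ1, hφh, -⟩ := exists_hom (pb := pb) h1 hcomm (mul_inv_eq_one.1 h3)
    exact ⟨φ, hφ1, fun y => by rw [hφh, hgen]⟩
  · intro P _ h u z _ _ hC k
    have h0 := hC 0 (by simp)
    simp only [pow_zero, one_mul, inv_one, mul_one] at h0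
    obtain ⟨c, rfl⟩ := hι k
    rw [show (ι c) = c.val • (1 : fixK σ) by rw [nsmul_eq_mul, mul_one, ← map_natCast ι, ZMod.natCast_zmod_val],
      ofAdd_nsmul, map_pow]
    exact h0.pow_left _

/-- The case of characteristic two. -/
theorem spec_two (hq2 : q ≠ 2) (h2 : ringChar F = 2) :
    ∃ (R : List (FreeGroup (Fin 2))) (Cl : List ℕ), R.length + Cl.length ≤ 9 ∧ Spec C f hδσ W β₀ R Cl := by
  classical
  obtain ⟨p, e, hp', he, hqe, hcF, hcK⟩ := exists_prime_pow C.herm.conj C.frob C.card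
  obtain rfl : p = 2 := by rw [← h2]; exact (ringChar.eq F p).symm
  letI : Algebra (ZMod 2) F := ZMod.algebra F 2
  letI : Algebra (ZMod 2) (fixK σ) := ZMod.algebra (fixK σ) 2
  haveI : Fintype (fixK σ) := Fintype.ofFinite _
  haveI : Fact (Nat.Prime 2) := ⟨Nat.prime_two⟩
  set l := lamM σ (W : F) with hldef
  set N := nK C.herm.conj (W : F) with hNdef
  have hN0 : N ≠ 0 := nK_ne C.herm.conj W.ne_zero
  have hgenF : ∀ x : F, x ≠ 0 → ∃ e : ℕ, (W : F) ^ e = x := fun x hx => exists_exp C W hW hx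
  have hNgen := w0_gen C.herm.conj hgenF
  have hN1 : N ≠ 1 := fun h => by
    have hle : Nat.card (fixK σ) ≤ Nat.card (Fin 2) := Nat.card_le_card_of_surjective
      (fun i : Fin 2 => if i = 0 then (0 : fixK σ) else 1) fun x => by
        by_cases hx : x = 0
        · exact ⟨0, by simp [hx]⟩
        · obtain ⟨e, rfl⟩ := hNgen x hx
          exact ⟨1, by simp [← hNdef, h]⟩
    rw [card_fixK C.herm.conj C.frob C.card, Nat.card_fin] at hle
    have := two_le_of_card_sq C.card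
    omega
  have h2F : (2 : F) = 0 := CharTwo.two_eq_zero
  have hs0 : (N : F) ≠ 0 := Subtype.coe_injective.ne hN0
  have hs1 : (1 + N : fixK σ) ≠ 0 := fun h => hN1 (by
    rw [← CharTwo.add_eq_zero, add_comm]; exact h)
  have hs1F : ((1 + N : fixK σ) : F) ≠ 0 := Subtype.coe_injective.ne hs1
  obtain ⟨i, hi⟩ := exists_exp C W hW hs0
  obtain ⟨i', hi'⟩ := exists_exp C W hW hs1F
  have hli : l ^ i = (N : F) := by rw [hldef, ← lamM_pow, hi, lamM_fixK N.2]
  have hli' : l ^ i' = 1 + (N : F) := by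
    rw [hldef, ← lamM_pow, hi', lamM_fixK (1 + N : fixK σ).2]; simp
  have hNi : N ^ i = N ^ 2 := by
    rw [hNdef, ← nK_pow, hi, ← hNdef]
    exact Subtype.ext (by rw [nK_val, show σ (N : F) = N from N.2]; simp [pow_two])
  have hNi' : N ^ i' = 1 + N ^ i := by
    rw [hNi, hNdef, ← nK_pow, hi', ← hNdef]
    refine Subtype.ext ?_
    rw [nK_val, show σ ((1 + N : fixK σ) : F) = ((1 + N : fixK σ) : F) from (1 + N : fixK σ).2]
    push_cast
    linear_combination (N : F) * h2F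
  have htopK : Algebra.adjoin (ZMod 2) ({N} : Set (fixK σ)) = ⊤ :=
    adjoin_of_pow C.herm.conj (fun x hx => hNgen x hx)
  have htopK2 : Algebra.adjoin (ZMod 2) ({N ^ i} : Set (fixK σ)) = ⊤ := by
    rw [hNi]
    refine adjoin_of_pow C.herm.conj fun x hx => ?_
    obtain ⟨c, rfl⟩ := (FiniteField.isSquare_of_char_two (ringChar.eq (fixK σ) 2) x).exists_sq
    obtain ⟨e, rfl⟩ := hNgen c fun e => hx (by simp [e])
    exact ⟨e, by rw [← pow_mul, ← pow_mul, mul_comm]⟩
  let pb := PowerBasis.ofAdjoinEqTop (Algebra.IsIntegral.isIntegral (R := ZMod 2) N) htopK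
  have hgen : pb.gen = N := PowerBasis.ofAdjoinEqTop_gen _ _
  obtain ⟨c0, c1, hll, -⟩ := exists_coords C.herm.conj hl (l * l)
  let A : FreeGroup (Fin 2) := wH ^ i
  let B' : FreeGroup (Fin 2) := wH ^ i'
  refine ⟨[wU ^ 2, (wU * (A * wU * A⁻¹))⁻¹ * (B' * wU * B'⁻¹), comW wU (A * wU * A⁻¹),
    (A ^ pb.dim * wU * (A ^ pb.dim)⁻¹) * (wordOn pb wU A (pb.gen ^ pb.dim))⁻¹, comW wU (wH * wU * wH⁻¹),
    comW wU (A * (wH * wU * wH⁻¹) * A⁻¹),
    (wH * (wH * wU * wH⁻¹) * wH⁻¹) * (wordOn pb wU A c0 * (wH * wordOn pb wU A c1 * wH⁻¹))⁻¹],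
    [0, i], by simp, ?_, ?_, ?_⟩
  · obtain ⟨Ψ, hΨ1, hΨh⟩ := quot_hom C f hδ hδσ hβ₀ W
    intro r hr
    refine mem_of_quot C f hδσ W ?_
    set H := QuotientGroup.mk' (zB C f hδσ).range (hB C f W)
    have hp := pow_act Ψ hΨh
    let ψ : Multiplicative (fixK σ) →* _ := Ψ.comp (AddMonoidHom.toMultiplicative (fixK σ).subtype.toAddMonoidHom)
    have hψ : ∀ k, ψ (ofAdd k) = Ψ (ofAdd (k : F)) := fun k => rfl
    have hw : ∀ k : fixK σ, wordOn pb (Ψ (ofAdd 1)) (H ^ i) k = Ψ (ofAdd (k : F)) := fun k => by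
      rw [← hψ]
      refine (eval_wordOn (pb := pb) ψ ?_ ?_ k).symm
      · rw [hψ]; simp
      · intro x; rw [hψ, hψ, hp, hli, hgen]; simp
    simp only [List.mem_cons, List.not_mem_nil, or_false] at hr
    rcases hr with rfl | rfl | rfl | rfl | rfl | rfl | rfl <;>
      simp only [A, B', comW, map_mul, map_inv, map_pow, map_wordOn, FreeGroup.lift_apply_of, Matrix.cons_val_zero,
        Matrix.cons_val_one, Matrix.cons_val_fin_one] <;> rw [← hΨ1]
    · rw [← map_pow, ← ofAdd_nsmul, two_nsmul, CharTwo.add_self_eq_zero, ofAdd_zero, map_one]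
    · rw [hp, hp, ← map_mul, ← map_inv, ← map_mul, mul_one, mul_one, hli, hli', ← ofAdd_add, ← ofAdd_neg,
        ← ofAdd_add, neg_add_cancel, ofAdd_zero, map_one]
    · refine word_of_commute ?_; rw [hp]; exact commute_hom Ψ _ _
    · rw [mul_inv_eq_one, hw, ← pow_mul, hp, pow_mul, hli, hgen]; simp
    · refine word_of_commute ?_; rw [hΨh]; exact commute_hom Ψ _ _
    · refine word_of_commute ?_; rw [hΨh, hp]; exact commute_hom Ψ _ _
    · rw [mul_inv_eq_one, hw, hw, hΨh, hΨh, hΨh, ← map_mul, ← ofAdd_add, mul_one, hll, mul_comm (c1 : F) l]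
  · intro Q _ h u hR
    simp only [List.forall_mem_cons, List.forall_mem_nil, A, B', comW, map_mul, map_inv, map_pow, map_wordOn,
      FreeGroup.lift_apply_of, Matrix.cons_val_zero, Matrix.cons_val_one, Matrix.cons_val_fin_one] at hR
    obtain ⟨h1, hb, hc, ht, hd0, hd1, hh2, -⟩ := hR
    set a := h ^ i
    set b := h ^ i'
    have hab : Commute a b := (Commute.refl h).pow_pow _ _
    have hah : Commute a h := (Commute.refl h).pow_left _
    have hbh : Commute b h := (Commute.refl h).pow_left _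
    have hb' : b * u * b⁻¹ = u * (a * u * a⁻¹) := (inv_mul_eq_one.1 hb).symm
    obtain ⟨φ0, hφ1, hφa, hφw⟩ := exists_lat_hom pb hab h1 hb' (commute_of_word hc) (mul_inv_eq_one.1 ht)
    let φ1 : Multiplicative (fixK σ) →* Q := (MulAut.conj h).toMonoidHom.comp φ0
    have hφ1' : ∀ k, φ1 k = h * φ0 k * h⁻¹ := fun k => rfl
    have hφ1a : ∀ y, a * φ1 (ofAdd y) * a⁻¹ = φ1 (ofAdd (pb.gen * y)) := fun y => by
      rw [hφ1', hφ1', ← hφa]
      calc a * (h * φ0 (ofAdd y) * h⁻¹) * a⁻¹ = (a * h) * φ0 (ofAdd y) * (a * h)⁻¹ := by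
            simp only [_root_.mul_inv_rev, mul_assoc]
        _ = (h * a) * φ0 (ofAdd y) * (h * a)⁻¹ := by rw [hah.eq]
        _ = _ := by simp only [_root_.mul_inv_rev, mul_assoc]
    have hv : b * (h * u * h⁻¹) * b⁻¹ = (h * u * h⁻¹) * (a * (h * u * h⁻¹) * a⁻¹) := by
      have e1 : ∀ x : Q, Commute x h → ∀ y, x * (h * y * h⁻¹) * x⁻¹ = h * (x * y * x⁻¹) * h⁻¹ := fun x hx y => by
        calc x * (h * y * h⁻¹) * x⁻¹ = (x * h) * y * (x * h)⁻¹ := by simp only [_root_.mul_inv_rev, mul_assoc]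
          _ = (h * x) * y * (h * x)⁻¹ := by rw [hx.eq]
          _ = _ := by simp only [_root_.mul_inv_rev, mul_assoc]
      rw [e1 b hbh, e1 a hah, hb']
      group
    have hall := lattice_commute hab hv (u := u) (c := 1) (by rw [hb', mul_one])
      (fun _ _ => Commute.one_left _) (commute_of_word hd0) (commute_of_word hd1)
    have hcu : ∀ y, Commute u (φ1 (ofAdd y)) := fun y => by
      rw [hom_eq_prod (pb := pb) φ1]
      refine Commute.list_prod_right _ _ fun x hx => ?_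
      obtain ⟨j, -, rfl⟩ := List.mem_map.1 hx
      refine Commute.pow_right ?_ _
      have h3 := hall (j : ℕ) 0
      rw [lat, zpow_zero, mul_one, zpow_natCast, MulAut.conj_apply, ← hφ1, ← hφ1', pow_act φ1 hφ1a, mul_one] at h3
      rwa [hφ1] at h3
    have hcomm : ∀ x y, Commute (φ0 x) (φ1 y) := fun x y => by
      rw [← ofAdd_toAdd x, ← ofAdd_toAdd y, hom_eq_prod (pb := pb) φ0]
      refine Commute.list_prod_left _ _ fun x' hx => ?_
      obtain ⟨j, -, rfl⟩ := List.mem_map.1 hx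
      refine Commute.pow_left ?_ _
      have e1 := pow_act φ0 hφa j 1
      rw [mul_one, hφ1] at e1
      have hg0 : pb.gen ^ (j : ℕ) ≠ 0 := pow_ne_zero _ (by rw [hgen]; exact hN0)
      have e2 := pow_act φ1 hφ1a j ((pb.gen ^ (j : ℕ))⁻¹ * y.toAdd)
      rw [mul_inv_cancel_left₀ hg0] at e2
      rw [← e1, ← e2]
      exact (Commute.conj_iff _).2 (hcu _)
    have co : ∀ t : F, ∃ ab : fixK σ × fixK σ, t = ab.1 + ab.2 * l ∧
        ∀ a' b' : fixK σ, t = a' + b' * l → a' = ab.1 ∧ b' = ab.2 := fun t => by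
      obtain ⟨x, y, h⟩ := exists_coords C.herm.conj hl t; exact ⟨(x, y), h⟩
    choose ab hab1 hab2 using co
    let Ψ : Multiplicative F →* Q := MonoidHom.mk'
      (fun t => φ0 (ofAdd (ab t.toAdd).1) * φ1 (ofAdd (ab t.toAdd).2)) fun s t => by
        obtain ⟨e1, e2⟩ := hab2 (s.toAdd + t.toAdd) ((ab s.toAdd).1 + (ab t.toAdd).1)
          ((ab s.toAdd).2 + (ab t.toAdd).2) (by
            conv_lhs => rw [hab1 s.toAdd, hab1 t.toAdd]
            push_cast; ring)
        rw [show (s * t).toAdd = s.toAdd + t.toAdd from rfl, ← e1, ← e2, ofAdd_add, ofAdd_add, map_mul, map_mul]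
        exact (hcomm _ _).mul_mul_mul_comm _ _ |>.symm.symm
    have hΨ : ∀ x y : fixK σ, Ψ (ofAdd ((x : F) + y * l)) = φ0 (ofAdd x) * φ1 (ofAdd y) := fun x y => by
      obtain ⟨e1, e2⟩ := hab2 _ x y rfl
      show φ0 _ * φ1 _ = _
      rw [toAdd_ofAdd, ← e1, ← e2]
    have hΨa : ∀ y, a * Ψ (ofAdd y) * a⁻¹ = Ψ (ofAdd ((pb.gen : F) * y)) := fun y => by
      rw [hab1 y, hΨ, mul_add, ← mul_assoc (pb.gen : F), ← Subfield.coe_mul, ← Subfield.coe_mul, hΨ, ← hφa, ← hφ1a]
      group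
    have key : ∀ k, h * φ1 (ofAdd k) * h⁻¹ = Ψ (ofAdd (l * l * (k : F))) := by
      let L1 : Multiplicative (fixK σ) →* Q := (MulAut.conj h).toMonoidHom.comp φ1
      let L2 : Multiplicative (fixK σ) →* Q := Ψ.comp (AddMonoidHom.toMultiplicative
        ((AddMonoidHom.mulLeft (l * l)).comp (fixK σ).subtype.toAddMonoidHom))
      have hL : L1 = L2 := by
        refine equiv_ext pb (a := a) ?_ (fun y => ?_) (fun y => ?_)
        · show h * φ1 (ofAdd 1) * h⁻¹ = Ψ (ofAdd (l * l * ((1 : fixK σ) : F)))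
          rw [Subfield.coe_one, mul_one, hll, hΨ, hφ1', hφ1, hφ1', hφw, hφw]
          exact mul_inv_eq_one.1 hh2
        · show a * (h * φ1 (ofAdd y) * h⁻¹) * a⁻¹ = h * φ1 (ofAdd (pb.gen * y)) * h⁻¹
          rw [← hφ1a]
          calc a * (h * φ1 (ofAdd y) * h⁻¹) * a⁻¹ = (a * h) * φ1 (ofAdd y) * (a * h)⁻¹ := by
                simp only [_root_.mul_inv_rev, mul_assoc]
            _ = (h * a) * φ1 (ofAdd y) * (h * a)⁻¹ := by rw [hah.eq]
            _ = _ := by simp only [_root_.mul_inv_rev, mul_assoc]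
        · show a * Ψ (ofAdd (l * l * (y : F))) * a⁻¹ = Ψ (ofAdd (l * l * ((pb.gen * y : fixK σ) : F)))
          rw [hΨa, Subfield.coe_mul, mul_left_comm]
      exact fun k => DFunLike.congr_fun hL (ofAdd k)
    refine ⟨Ψ, ?_, fun y => ?_⟩
    · have := hΨ 1 0
      simpa [hφ1] using this
    · rw [hab1 y, hΨ]
      calc h * (φ0 (ofAdd (ab y).1) * φ1 (ofAdd (ab y).2)) * h⁻¹
          = φ1 (ofAdd (ab y).1) * (h * φ1 (ofAdd (ab y).2) * h⁻¹) := by rw [hφ1' (ofAdd (ab y).1)]; group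
        _ = Ψ (ofAdd (((0 : fixK σ) : F) + (ab y).1 * l)) * Ψ (ofAdd (l * l * ((ab y).2 : F))) := by
            rw [hΨ, ofAdd_zero, map_one, one_mul, key]
        _ = _ := by rw [← map_mul, ← ofAdd_add]; congr 2; push_cast; ring
  · intro P _ h u z hz hR hC k
    simp only [List.forall_mem_cons, A, B', map_mul, map_inv, map_pow, FreeGroup.lift_apply_of,
      Matrix.cons_val_zero, Matrix.cons_val_one, Matrix.cons_val_fin_one] at hR
    have h0 := hC 0 (by simp)
    simp only [pow_zero, one_mul, inv_one, mul_one] at h0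
    exact cent_all (p := 2) z hz hN0 hNi' htopK2 hR.2.1 h0.symm (hC i (by simp)).symm k

/-- The case of an odd proper power. -/
theorem spec_odd (hq : ¬ q.Prime) (h2 : ringChar F ≠ 2) :
    ∃ (R : List (FreeGroup (Fin 2))) (Cl : List ℕ), R.length + Cl.length ≤ 9 ∧ Spec C f hδσ W β₀ R Cl := by
  classical
  obtain ⟨p, e, hp', he, hqe, hcF, hcK⟩ := exists_prime_pow C.herm.conj C.frob C.card
  have hp2 : p ≠ 2 := fun h => h2 (by rw [ringChar.eq F p, h])
  have he2 : 2 ≤ e := by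
    by_contra h
    obtain rfl : e = 1 := by omega
    exact hq (by rw [hqe, pow_one]; exact hp')
  haveI := Fact.mk hp'
  letI : Algebra (ZMod p) F := ZMod.algebra F p
  letI : Algebra (ZMod p) (fixK σ) := ZMod.algebra (fixK σ) p
  obtain ⟨x, α, α', n, hα, hα', hxσ, hx0, hαx, hαx', hn, htopK, hnn⟩ :=
    exists_odd_pair C.herm.conj C.frob C.card hp' hp2 he2 hqe
  set l := lamM σ (W : F) with hldef
  set N := nK C.herm.conj (W : F) with hNdef
  have hN0 : N ≠ 0 := nK_ne C.herm.conj W.ne_zero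
  obtain ⟨i, hi⟩ := exists_exp C W hW hα
  obtain ⟨i', hi'⟩ := exists_exp C W hW hα'
  have hli : l ^ i = x := by rw [hldef, ← lamM_pow, hi, hαx]
  have hli' : l ^ i' = 1 + x := by rw [hldef, ← lamM_pow, hi', hαx']
  have hNi : N ^ i = n := by rw [hNdef, ← nK_pow, hi]; exact Subtype.ext (by rw [nK_val, hn])
  have hNi' : N ^ i' = 1 + N ^ i := by
    rw [hNi, hNdef, ← nK_pow, hi']
    refine Subtype.ext ?_
    rw [nK_val, hnn]
    push_cast
    rw [hn]
  have hxn : (n : F) = -(x * x) := by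
    have := lamM_norm C hα
    rw [hαx, hxσ] at this
    rw [hn, ← this]; ring
  have h2F : (2 : F) ≠ 0 := Ring.two_ne_zero h2
  have hxK : σ x ≠ x := fun h => hx0 (mul_left_cancel₀ h2F (by rw [mul_zero]; linear_combination hxσ - h))
  have htop : Algebra.adjoin (ZMod p) ({x} : Set F) = ⊤ := by
    have hK : ∀ k : fixK σ, (k : F) ∈ Algebra.adjoin (ZMod p) ({x} : Set F) := fun k => by
      have hk : k ∈ Algebra.adjoin (ZMod p) ({n} : Set (fixK σ)) := htopK.ge Algebra.mem_top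
      induction hk using Algebra.adjoin_induction with
      | mem y hy =>
        obtain rfl : y = n := hy
        rw [hxn]
        exact neg_mem (mul_mem (Algebra.subset_adjoin rfl) (Algebra.subset_adjoin rfl))
      | algebraMap c =>
        rw [show ((algebraMap (ZMod p) (fixK σ) c : fixK σ) : F) = algebraMap (ZMod p) F c from
          DFunLike.congr_fun (RingHom.ext_zmod ((fixK σ).subtype.comp (algebraMap (ZMod p) (fixK σ))) _) c]
        exact Subalgebra.algebraMap_mem _ _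
      | add y z _ _ ihy ihz => rw [Subfield.coe_add]; exact add_mem ihy ihz
      | mul y z _ _ ihy ihz => rw [Subfield.coe_mul]; exact mul_mem ihy ihz
    refine eq_top_iff.2 fun y _ => ?_
    obtain ⟨a, b, rfl, -⟩ := exists_coords C.herm.conj hxK y
    exact add_mem (hK a) (mul_mem (hK b) (Algebra.subset_adjoin rfl))
  let pb := PowerBasis.ofAdjoinEqTop (Algebra.IsIntegral.isIntegral (R := ZMod p) x) htop
  have hgen : pb.gen = x := PowerBasis.ofAdjoinEqTop_gen _ _
  let A : FreeGroup (Fin 2) := wH ^ i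
  let B' : FreeGroup (Fin 2) := wH ^ i'
  refine ⟨[wU ^ p, (wU * (A * wU * A⁻¹))⁻¹ * (B' * wU * B'⁻¹), comW wU (A * wU * A⁻¹),
    (A ^ pb.dim * wU * (A ^ pb.dim)⁻¹) * (wordOn pb wU A (pb.gen ^ pb.dim))⁻¹,
    (wH * wU * wH⁻¹) * (wordOn pb wU A l)⁻¹], [0, i], by simp, ?_, ?_, ?_⟩
  · obtain ⟨Ψ, hΨ1, hΨh⟩ := quot_hom C f hδ hδσ hβ₀ W
    intro r hr
    refine mem_of_quot C f hδσ W ?_
    set H := QuotientGroup.mk' (zB C f hδσ).range (hB C f W)
    have hpw := pow_act Ψ hΨh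
    have hw : ∀ y : F, wordOn pb (Ψ (ofAdd 1)) (H ^ i) y = Ψ (ofAdd y) := fun y =>
      (eval_wordOn (pb := pb) Ψ rfl (fun z => by rw [hpw, hli, hgen]) y).symm
    simp only [List.mem_cons, List.not_mem_nil, or_false] at hr
    rcases hr with rfl | rfl | rfl | rfl | rfl <;>
      simp only [A, B', comW, map_mul, map_inv, map_pow, map_wordOn, FreeGroup.lift_apply_of, Matrix.cons_val_zero,
        Matrix.cons_val_one, Matrix.cons_val_fin_one] <;> rw [← hΨ1]
    · rw [← map_pow, ← ofAdd_nsmul, nsmul_eq_mul, mul_one, (CharP.cast_eq_zero_iff F p p).2 dvd_rfl, ofAdd_zero,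
        map_one]
    · rw [hpw, hpw, ← map_mul, ← map_inv, ← map_mul, mul_one, mul_one, hli, hli', ← ofAdd_add, ← ofAdd_neg,
        ← ofAdd_add, neg_add_cancel, ofAdd_zero, map_one]
    · refine word_of_commute ?_; rw [hpw]; exact commute_hom Ψ _ _
    · rw [mul_inv_eq_one, hw, ← pow_mul, hpw, pow_mul, hli, hgen, mul_one]
    · rw [mul_inv_eq_one, hw, hΨh, mul_one]
  · intro Q _ h u hR
    simp only [List.forall_mem_cons, List.forall_mem_nil, A, B', comW, map_mul, map_inv, map_pow, map_wordOn,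
      FreeGroup.lift_apply_of, Matrix.cons_val_zero, Matrix.cons_val_one, Matrix.cons_val_fin_one] at hR
    obtain ⟨h1, hb, hc, ht, hh, -⟩ := hR
    set a := h ^ i
    have hah : Commute a h := (Commute.refl h).pow_left _
    obtain ⟨φ, hφ1, hφa, hφw⟩ := exists_lat_hom pb ((Commute.refl h).pow_pow i i') h1
      (inv_mul_eq_one.1 hb).symm (commute_of_word hc) (mul_inv_eq_one.1 ht)
    refine ⟨φ, hφ1, fun y => ?_⟩
    have hL : (MulAut.conj h).toMonoidHom.comp φ =
        φ.comp (AddMonoidHom.toMultiplicative (AddMonoidHom.mulLeft l)) := by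
      refine equiv_ext pb (a := a) ?_ (fun y => ?_) (fun y => ?_)
      · show h * φ (ofAdd 1) * h⁻¹ = φ (ofAdd (l * 1))
        rw [hφ1, mul_one, hφw]
        exact mul_inv_eq_one.1 hh
      · show a * (h * φ (ofAdd y) * h⁻¹) * a⁻¹ = h * φ (ofAdd (pb.gen * y)) * h⁻¹
        rw [← hφa]
        calc a * (h * φ (ofAdd y) * h⁻¹) * a⁻¹ = (a * h) * φ (ofAdd y) * (a * h)⁻¹ := by
              simp only [_root_.mul_inv_rev, mul_assoc]
          _ = (h * a) * φ (ofAdd y) * (h * a)⁻¹ := by rw [hah.eq]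
          _ = _ := by simp only [_root_.mul_inv_rev, mul_assoc]; rfl
      · show a * φ (ofAdd (l * y)) * a⁻¹ = φ (ofAdd (l * (pb.gen * y)))
        rw [hφa, mul_left_comm]
    exact DFunLike.congr_fun hL (ofAdd y)
  · intro P _ h u z hz hR hC k
    simp only [List.forall_mem_cons, A, B', map_mul, map_inv, map_pow, FreeGroup.lift_apply_of,
      Matrix.cons_val_zero, Matrix.cons_val_one, Matrix.cons_val_fin_one] at hR
    have h0 := hC 0 (by simp)
    simp only [pow_zero, one_mul, inv_one, mul_one] at h0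
    exact cent_all (p := p) z hz hN0 hNi' (by rw [hNi]; exact htopK) hR.2.1 h0.symm (hC i (by simp)).symm k

/-- The relations of the Borel subgroup. -/
theorem exists_spec (hq : q ≠ 2) :
    ∃ (R : List (FreeGroup (Fin 2))) (Cl : List ℕ), R.length + Cl.length ≤ 9 ∧ Spec C f hδσ W β₀ R Cl := by
  by_cases hp : q.Prime
  · exact spec_prime C f hδ hδσ hβ₀ W hW hl hp
  · by_cases h2 : ringChar F = 2
    · exact spec_two C f hδ hδσ hβ₀ W hW hl hq h2
    · exact spec_odd C f hδ hδσ hβ₀ W hW hl hp h2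

end CfsgLib.SU3Pres
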