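import Mathlib

/-!
# Commutation of two families of conjugates under two commuting elements

If `b v b⁻¹ = v (a v a⁻¹)` and `b u b⁻¹ = u (a u a⁻¹) c` with `c` central for the conjugates of `v`, then `u`
commutes with all conjugates of `v` once it commutes with `v` and `a v a⁻¹`.
-/

set_option autoImplicit false

namespace CfsgLib.SU3Pres

variable {P : Type*} [Group P] (a b v : P)

/-- The conjugate at a lattice point. -/
def lat (i j : ℤ) : P := MulAut.conj (a ^ i * b ^ j) v

variable {a b v}

theorem lat_zero : lat a b v 0 0 = v := by simp [lat]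

theorem lat_shift (hab : Commute a b) (i j i' j' : ℤ) :
    MulAut.conj (a ^ i' * b ^ j') (lat a b v i j) = lat a b v (i' + i) (j' + j) := by
  have h : a ^ i' * b ^ j' * (a ^ i * b ^ j) = a ^ (i' + i) * b ^ (j' + j) := by
    rw [zpow_add, zpow_add, mul_assoc, ← mul_assoc (b ^ j'), ← (hab.zpow_zpow i j').eq]
    simp only [mul_assoc]
  simp only [lat]
  rw [← MulAut.mul_apply, ← map_mul, h]

theorem lattice_commute {u c : P} (hab : Commute a b) (hv : b * v * b⁻¹ = v * (a * v * a⁻¹))
    (hu : b * u * b⁻¹ = u * (a * u * a⁻¹) * c) (hc : ∀ i j, Commute c (lat a b v i j))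
    (h0 : Commute u v) (h1 : Commute u (a * v * a⁻¹)) : ∀ i j, Commute u (lat a b v i j) := by
  let S : ℤ → ℤ → Prop := fun i j => Commute u (lat a b v i j)
  have hadd : ∀ i j, lat a b v i (j + 1) = lat a b v i j * lat a b v (i + 1) j := fun i j => by
    have e : MulAut.conj (a ^ i * b ^ j) (b * v * b⁻¹) = lat a b v i (j + 1) := by
      have := lat_shift (v := v) hab 0 1 i j
      rw [add_zero] at this
      rw [← this]
      simp [lat]
    have e' : MulAut.conj (a ^ i * b ^ j) (a * v * a⁻¹) = lat a b v (i + 1) j := by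
      have := lat_shift (v := v) hab 1 0 i j
      rw [add_zero] at this
      rw [← this]
      simp [lat]
    rw [← e, hv, map_mul, e']
    rfl
  have up1 : ∀ i j, S i j → S (i + 1) j → S i (j + 1) := fun i j x y => by
    show Commute u _; rw [hadd]; exact x.mul_right y
  have up2 : ∀ i j, S i j → S i (j + 1) → S (i + 1) j := fun i j x y => by
    have := (x : Commute u _).inv_right.mul_right (y : Commute u _)
    rwa [hadd, inv_mul_cancel_left] at this
  have up3 : ∀ i j, S (i + 1) j → S i (j + 1) → S i j := fun i j x y => by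
    have := (y : Commute u _).mul_right (x : Commute u _).inv_right
    rwa [hadd, mul_inv_cancel_right] at this
  have hA : ∀ i j, S i j ↔ Commute (a * u * a⁻¹) (lat a b v (i + 1) j) := fun i j => by
    have e := lat_shift (v := v) hab i j 1 0
    rw [zpow_one, zpow_zero, mul_one, zero_add, add_comm 1 i, MulAut.conj_apply] at e
    rw [← e]
    exact (Commute.conj_iff a).symm
  have hB : ∀ i j, S i j ↔ Commute (b * u * b⁻¹) (lat a b v i (j + 1)) := fun i j => by
    have e := lat_shift (v := v) hab i j 0 1
    rw [zpow_one, zpow_zero, one_mul, zero_add, add_comm 1 j, MulAut.conj_apply] at e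
    rw [← e]
    exact (Commute.conj_iff b).symm
  -- the lower triangle `(i+1, j+1)`, `(i, j+1)`, `(i+1, j)`
  have dn1 : ∀ i j, S (i + 1) (j + 1) → S i (j + 1) → S (i + 1) j := fun i j x y => by
    rw [hB, hu]
    exact ((x : Commute u _).mul_left ((hA i (j + 1)).1 y)).mul_left (hc _ _)
  have dn2 : ∀ i j, S (i + 1) (j + 1) → S (i + 1) j → S i (j + 1) := fun i j x y => by
    rw [hA]
    have h := ((x : Commute u _).inv_left.mul_left ((hB (i + 1) j).1 y)).mul_left (hc (i + 1) (j + 1)).inv_left
    rw [hu] at h
    simpa [mul_assoc] using h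
  have dn3 : ∀ i j, S i (j + 1) → S (i + 1) j → S (i + 1) (j + 1) := fun i j x y => by
    have h := ((hB (i + 1) j).1 y).mul_left
      ((hc (i + 1) (j + 1)).inv_left.mul_left ((hA i (j + 1)).1 x).inv_left)
    rw [hu] at h
    show Commute u _
    simpa [mul_assoc] using h
  -- pairs of neighbours in a row
  let T : ℤ → ℤ → Prop := fun i j => S i j ∧ S (i + 1) j
  have below' : ∀ i j, T i (j + 1) → S (i + 1) j := fun i j h => dn1 i j h.2 h.1
  have below : ∀ i j, T i j → S (i + 1) (j - 1) := fun i j h =>
    below' i (j - 1) (by rwa [sub_add_cancel])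
  have right : ∀ i j, T i j → T (i + 1) j := fun i j h => by
    refine ⟨h.2, ?_⟩
    have e1 : S (i + 1 + 1) (j - 1) := up2 (i + 1) (j - 1) (below i j h) (by rw [sub_add_cancel]; exact h.2)
    have := dn3 (i + 1) (j - 1) (by rw [sub_add_cancel]; exact h.2) e1
    rwa [sub_add_cancel] at this
  have left : ∀ i j, T i j → T (i - 1) j := fun i j h => by
    refine ⟨?_, by rw [sub_add_cancel]; exact h.1⟩
    have e1 : S (i - 1) (j + 1) :=
      dn2 (i - 1) j (by rw [sub_add_cancel]; exact up1 i j h.1 h.2) (by rw [sub_add_cancel]; exact h.1)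
    exact up3 (i - 1) j (by rw [sub_add_cancel]; exact h.1) e1
  have row : ∀ j, T 0 j → ∀ i, T i j := fun j h i => by
    induction i using Int.induction_on with
    | zero => exact h
    | succ n ih => exact right _ _ ih
    | pred n ih => exact left _ _ ih
  have col : ∀ j, T 0 j := fun j => by
    induction j using Int.induction_on with
    | zero =>
      refine ⟨?_, ?_⟩
      · show Commute u _; rw [lat_zero]; exact h0
      · show Commute u _; simpa [lat] using h1
    | succ n ih => exact ⟨up1 _ _ ih.1 ih.2, up1 _ _ ih.2 (row _ ih 1).2⟩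
    | pred n ih =>
      refine ⟨?_, below 0 _ ih⟩
      simpa using below (-1) _ (row _ ih (-1))
  exact fun i j => (row j (col j) i).1

end CfsgLib.SU3Pres
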