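import Cfsg.Agent.Lib.KnownB.SU3Pres.Cases
import Cfsg.Agent.Lib.KnownA.MinIndexU3.NoTransv
import Cfsg.Agent.Lib.KnownB.SUPres.Pres
import Cfsg.Agent.Lib.Classical.HermMatrixSimple

/-!
# A presentation of the three-dimensional special unitary groups on three generators
-/

set_option autoImplicit false
set_option linter.unusedSectionVars false

open Module CfsgLib.Classical CfsgLib.Classical.SUUnipotent CfsgLib.KnownA.MinIndexU3 CfsgLib.Perm.Quad.SL2
open CfsgLib.SLPres CfsgLib.SL2Pres CfsgLib.SUPres CfsgLib.Presentations Multiplicative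

namespace CfsgLib.SU3Pres

variable {F : Type*} [Field F] [Fintype F] {V : Type*} [AddCommGroup V] [Module F V] [FiniteDimensional F V]
  {σ : F →+* F} {B : V →ₛₗ[σ] V →ₗ[F] F} {q : ℕ} (C : U3 B q) (f : Fr B)

theorem jSL_up_jSL {K : Type*} [Field K] {k : K} (hk : k ≠ 0) :
    jSL * up k * jSL = up (-k⁻¹) * jSL * up (-k) * dg (-k) (neg_ne_zero.2 hk) := by
  apply ext2 <;> simp [mul_apply2, jSL_coe, up_val, dg_val, hk]

include C in
/-- Three generators and twenty relations for the unitary groups in dimension three. -/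
theorem sIsom_pres (hq : q ≠ 2) : ∃ t : Fin 3 → sIsom B, HasPres 3 20 t ⊤ := by
  classical
  haveI : Finite V := Module.finite_of_finite F
  obtain ⟨f, -⟩ := exists_frame C
  obtain ⟨δ, hδ, hδt⟩ := C.herm.conj.exists_trace_zero
  have hδσ : σ δ = -δ := eq_neg_of_add_eq_zero_right hδt
  obtain ⟨w, hw, hgen⟩ := exists_generator (F := F)
  obtain ⟨hr1, hrn, hrall⟩ := norm_one_gen C.herm.conj hw hgen
  set r := w / σ w with hrdef
  set β₀ : F := 1 / (r - 1) with hβdef
  have hr0 : r ≠ 0 := fun e => by simp [e] at hrn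
  have hβ₀ : Adm C 1 β₀ := by
    have hsr : σ r = r⁻¹ := eq_inv_of_mul_eq_one_left hrn
    have h1 : r - 1 ≠ 0 := sub_ne_zero.2 hr1
    have h2 : 1 - r ≠ 0 := sub_ne_zero.2 (Ne.symm hr1)
    show _ = _
    rw [hβdef, map_div₀, map_sub, map_one, hsr, mul_one,
      show r⁻¹ - 1 = (1 - r) / r by field_simp, one_div_div]
    rw [div_add_div _ _ h1 h2, div_eq_iff (mul_ne_zero h1 h2)]
    ring
  let W : Fˣ := Units.mk0 w hw
  have hW : ∀ a : Fˣ, ∃ e : ℕ, W ^ e = a := fun a => by
    obtain ⟨e, he⟩ := hgen a a.ne_zero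
    exact ⟨e, Units.ext (by rw [Units.val_pow_eq_pow_val]; exact he)⟩
  have hl : σ (lamM σ (W : F)) ≠ lamM σ W := lam_notFixed C.herm.conj hw hgen C.frob C.card hq
  have hσW : W ^ (q + 1) = Units.mk0 ((nK C.herm.conj (W : F) : fixK σ) : F)
      (Subtype.coe_injective.ne (nK_ne C.herm.conj W.ne_zero)) :=
    Units.ext (by simp [nK_val, C.frob, pow_succ'])
  obtain ⟨p, e, hp, he, hqe, hcF, hcK⟩ := exists_prime_pow C.herm.conj C.frob C.card
  haveI := Fact.mk hp
  letI : Algebra (ZMod p) (fixK σ) := ZMod.algebra (fixK σ) p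
  haveI : Fintype (fixK σ) := Fintype.ofFinite _
  set N := nK C.herm.conj (W : F) with hNdef
  have hN : N ≠ 0 := nK_ne C.herm.conj W.ne_zero
  obtain ⟨RK, hRK, -, eK, heK⟩ := exists_short' (p := p) hN (w0_gen C.herm.conj hgen)
  obtain ⟨R, Cl, hlen, hsound, hcomp, hcent⟩ := exists_spec C f hδ hδσ hβ₀ W hW hl hq
  -- words in the Borel subgroup
  have hword : ∀ x : borel f C, ∃ v : FreeGroup (Fin 2),
      FreeGroup.lift ![hB C f W, eB C f 1 β₀] v = x := fun x => by
    have hx : x ∈ (FreeGroup.lift ![hB C f W, eB C f 1 β₀]).range := by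
      rw [FreeGroup.range_lift_eq_closure, Matrix.range_cons, Matrix.range_cons, Matrix.range_empty,
        Set.union_empty, Set.singleton_union, borel_gen C f hδ hδσ hβ₀ W hW hl]
      trivial
    exact hx
  choose wd hwd using hword
  let J : FreeGroup (Fin 3) := FreeGroup.of 2
  let H : FreeGroup (Fin 3) := FreeGroup.of 0
  let U : FreeGroup (Fin 3) := FreeGroup.of 1
  let ι : FreeGroup (Fin 2) →* FreeGroup (Fin 3) := FreeGroup.lift ![H, U]
  let t : Fin 3 → sIsom B := ![hEl C f W, eEl C f 1 β₀, jEl C f hδ hδσ]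
  have eι : ∀ v, FreeGroup.lift t (ι v) = (FreeGroup.lift ![hB C f W, eB C f 1 β₀] v : sIsom B) := fun v =>
    DFunLike.congr_fun (show (FreeGroup.lift t).comp ι = (borel f C).subtype.comp
      (FreeGroup.lift ![hB C f W, eB C f 1 β₀]) from FreeGroup.ext_hom _ _ fun i => by
        fin_cases i <;> simp [ι, H, U, t] <;> rfl) v
  let S : Fin 3 → FreeGroup (Fin 3) := ![ι (wd (zB C f hδσ (ofAdd 1))), H ^ (q + 1), J]
  have hWK : ∀ x : SL (fixK σ), ∃ v : FreeGroup (Fin 3), eK (PresentedGroup.mk _ v) = x := fun x => by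
    obtain ⟨v, hv⟩ := PresentedGroup.mk_surjective _ (eK.symm x)
    exact ⟨v, by rw [hv, eK.apply_symm_apply]⟩
  choose WK hWK using hWK
  let vK : SL (fixK σ) → FreeGroup (Fin 3) := fun x => FreeGroup.lift S (WK x)
  set L := lHom C f hδ hδσ with hL
  have hup1 : (uSL (ofAdd (1 : fixK σ)) : SL (fixK σ)) = up 1 := Subtype.ext (uSL_coe 1)
  have eS : (FreeGroup.lift t).comp (FreeGroup.lift S) = (L.comp eK.toMonoidHom).comp (PresentedGroup.mk _) := by
    refine FreeGroup.ext_hom _ _ fun k => ?_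
    show FreeGroup.lift t (FreeGroup.lift S (FreeGroup.of k)) = L (eK (PresentedGroup.of k))
    rw [heK, FreeGroup.lift_apply_of]
    fin_cases k
    · show FreeGroup.lift t (ι _) = L (uSL (ofAdd (1 : fixK σ)))
      rw [eι, hwd, hup1, hL, lHom_up, zB_apply]
      rfl
    · show FreeGroup.lift t (H ^ (q + 1)) = L (dSL hN)
      rw [map_pow, FreeGroup.lift_apply_of, hL, dSL_dg hN, lHom_dg, ← hσW, ← hHom_apply, map_pow]
      rfl
    · show FreeGroup.lift t J = L jSL
      rw [FreeGroup.lift_apply_of]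
      rfl
  have eV : ∀ x, FreeGroup.lift t (vK x) = L x := fun x =>
    (DFunLike.congr_fun eS (WK x)).trans (congrArg L (hWK x))
  have eZ : ∀ k : fixK σ, FreeGroup.lift t (vK (up k)) = (zB C f hδσ (ofAdd k) : sIsom B) := fun k => by
    rw [eV, hL, lHom_up, zB_apply]; rfl
  obtain ⟨m, hm⟩ := hW (Units.map (σ : F →* F) W)⁻¹
  obtain ⟨ws, hws, hwsc⟩ : ∃ ws : FreeGroup (Fin 3),
      jEl C f hδ hδσ * eEl C f 1 β₀ * jEl C f hδ hδσ = FreeGroup.lift t ws ∧
      ((∃ v, ws = ι v) ∨ ∃ v v', ws = ι v * J * ι v') := by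
    rcases exists_cell C f hδ hδσ (jEl C f hδ hδσ * eEl C f 1 β₀ * jEl C f hδ hδσ) with hg | ⟨x, hx, y, hy, hxy⟩
    · exact ⟨ι (wd ⟨_, hg⟩), by rw [eι, hwd], Or.inl ⟨_, rfl⟩⟩
    · refine ⟨ι (wd ⟨x, hx⟩) * J * ι (wd ⟨y, hy⟩), ?_, Or.inr ⟨_, _, rfl⟩⟩
      rw [hxy, map_mul, map_mul, eι, eι, hwd, hwd, FreeGroup.lift_apply_of]
      rfl
  have hk : ∀ v ∈ R, ∃ k : fixK σ,
      (FreeGroup.lift ![hB C f W, eB C f 1 β₀] v : borel f C) = zB C f hδσ (ofAdd k) := fun v hv => by
    obtain ⟨k, hk⟩ := hsound v hv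
    exact ⟨k.toAdd, hk.symm⟩
  choose kk hkk using hk
  let base : List (FreeGroup (Fin 3)) :=
    [H * vK (up 1) * H⁻¹ * (vK (up N))⁻¹, J * H * J⁻¹ * (H ^ m)⁻¹, J * U * J * ws⁻¹]
  let central : List (FreeGroup (Fin 3)) := R.attach.map fun v => ι v.1 * (vK (up (kk v.1 v.2)))⁻¹
  let comm : List (FreeGroup (Fin 3)) := Cl.map fun i => comW (H ^ i * vK (up 1) * (H ^ i)⁻¹) U
  let rels : List (FreeGroup (Fin 3)) := RK.toList.map (FreeGroup.lift S) ++ base ++ central ++ comm
  have hrels : rels.toFinset.card ≤ 20 := by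
    refine (List.toFinset_card_le _).trans ?_
    simp [rels, base, central, comm]
    omega
  have htH : FreeGroup.lift t H = hEl C f W := FreeGroup.lift_apply_of
  have htU : FreeGroup.lift t U = eEl C f 1 β₀ := FreeGroup.lift_apply_of
  have htJ : FreeGroup.lift t J = jEl C f hδ hδσ := FreeGroup.lift_apply_of
  have hrel : ∀ x ∈ (↑rels.toFinset : Set (FreeGroup (Fin 3))), FreeGroup.lift t x = 1 := by
    intro x hx
    simp only [Finset.mem_coe, List.mem_toFinset, rels, List.mem_append, List.mem_map] at hx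
    rcases hx with ((⟨r0, hr0, rfl⟩ | hx) | hx) | hx
    · have := DFunLike.congr_fun eS r0
      rw [MonoidHom.comp_apply, MonoidHom.comp_apply,
        PresentedGroup.one_of_mem (Finset.mem_coe.2 (Finset.mem_toList.1 hr0)), map_one] at this
      exact this
    · simp only [base, List.mem_cons, List.not_mem_nil, or_false] at hx
      rcases hx with rfl | rfl | rfl <;> rw [map_mul, map_inv, mul_inv_eq_one]
      · rw [map_mul, map_mul, map_inv, eZ, eZ, htH]
        have := congrArg Subtype.val (zB_conj C f hδσ W 1)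
        rw [mul_one] at this
        exact this
      · rw [map_mul, map_mul, map_inv, map_pow, htH, htJ, jEl_hEl, ← hm, ← hHom_apply, ← hHom_apply, map_pow]
      · rw [map_mul, map_mul, htU, htJ, hws]
    · simp only [central, List.mem_map] at hx
      obtain ⟨⟨v, hv⟩, -, rfl⟩ := hx
      rw [map_mul, map_inv, mul_inv_eq_one, eι, eZ, hkk v hv]
    · simp only [comm, List.mem_map] at hx
      obtain ⟨i, -, rfl⟩ := hx
      simp only [comW, map_mul, map_inv, map_pow, htH, htU, eZ]
      refine word_of_commute ?_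
      have h1 := pow_act (zB C f hδσ) (fun k => zB_conj C f hδσ W k) i 1
      have h2 := (eB_zB_comm C f hδσ hβ₀ ((nK C.herm.conj (W : F)) ^ i * 1)).symm
      rw [← h1] at h2
      exact congrArg Subtype.val h2.eq
  let π := PresentedGroup.toGroup hrel
  let mk := PresentedGroup.mk (↑rels.toFinset : Set (FreeGroup (Fin 3)))
  have hπmk : ∀ v, π (mk v) = FreeGroup.lift t v := fun v => rfl
  have hone : ∀ x ∈ rels, mk x = 1 := fun x hx =>
    PresentedGroup.one_of_mem (Finset.mem_coe.2 (List.mem_toFinset.2 hx))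
  have hψ : ∀ x ∈ (↑RK : Set (FreeGroup (Fin 3))), FreeGroup.lift (fun k => mk (S k)) x = 1 := fun x hx => by
    rw [show FreeGroup.lift (fun k => mk (S k)) = mk.comp (FreeGroup.lift S) from
      FreeGroup.ext_hom _ _ fun k => by simp]
    exact hone _ (by
      simp only [rels, List.mem_append, List.mem_map]
      exact Or.inl (Or.inl (Or.inl ⟨x, Finset.mem_toList.2 (Finset.mem_coe.1 hx), rfl⟩)))
  let φ2 : SL (fixK σ) →* PresentedGroup (↑rels.toFinset : Set (FreeGroup (Fin 3))) :=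
    (PresentedGroup.toGroup hψ).comp eK.symm.toMonoidHom
  have hφv : ∀ x, φ2 x = mk (vK x) := fun x => by
    show PresentedGroup.toGroup hψ (eK.symm x) = _
    rw [show eK.symm x = PresentedGroup.mk _ (WK x) from by rw [eK.symm_apply_eq, hWK]]
    exact DFunLike.congr_fun (show FreeGroup.lift (fun k => mk (S k)) = mk.comp (FreeGroup.lift S) from
      FreeGroup.ext_hom _ _ fun k => by simp) (WK x)
  have hπ2 : ∀ x, π (φ2 x) = L x := fun x => by rw [hφv, hπmk, eV]
  have hφk : ∀ k, φ2 (eK (PresentedGroup.of k)) = mk (S k) := fun k => by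
    show PresentedGroup.toGroup hψ (eK.symm (eK (PresentedGroup.of k))) = _
    rw [eK.symm_apply_apply]
    exact PresentedGroup.toGroup.of hψ
  set h := mk H with hh
  set u := mk U with hu
  have hdg : φ2 (dg N hN) = h ^ (q + 1) := by
    have := hφk 1
    rw [heK] at this
    rw [← dSL_dg hN]
    exact this.trans (map_pow mk H (q + 1))
  have hj : φ2 jSL = mk J := by
    have := hφk 2
    rw [heK] at this
    exact this
  have hbase : ∀ x ∈ base, mk x = 1 := fun x hx => hone x (by simp [rels, hx])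
  have hz1 : h * φ2 (up 1) * h⁻¹ = φ2 (up N) := by
    have := hbase (H * vK (up 1) * H⁻¹ * (vK (up N))⁻¹) (by simp [base])
    simp only [map_mul, map_inv, mul_inv_eq_one] at this
    rw [hφv, hφv]
    exact this
  have hz := hz_all C W φ2 (by have := two_le_of_card_sq C.card; omega) hW hdg hz1
  let z : Multiplicative (fixK σ) →* PresentedGroup (↑rels.toFinset : Set (FreeGroup (Fin 3))) :=
    φ2.comp (MonoidHom.mk' (fun k => up k.toAdd) fun a b => (up_add _ _).symm)
  have hmkι : ∀ v, mk (ι v) = FreeGroup.lift ![h, u] v := fun v =>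
    DFunLike.congr_fun (show mk.comp ι = FreeGroup.lift ![h, u] from
      FreeGroup.ext_hom _ _ fun i => by fin_cases i <;> simp [ι] <;> first | exact hh.symm | exact hu.symm) v
  have hR : ∀ v, ∀ hv : v ∈ R, FreeGroup.lift ![h, u] v = φ2 (up (kk v hv)) := fun v hv => by
    have := hone (ι v * (vK (up (kk v hv)))⁻¹) (by
      simp only [rels, List.mem_append]
      exact Or.inl (Or.inr (List.mem_map.2 ⟨⟨v, hv⟩, List.mem_attach _ _, rfl⟩)))
    rw [map_mul, map_inv, mul_inv_eq_one, hmkι, ← hφv] at this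
    exact this
  have cent : ∀ k, Commute (φ2 (up k)) u := hcent h u z hz
    (fun v hv => ⟨ofAdd (kk v hv), (hR v hv).symm⟩) fun i hi => by
      have := hone (comW (H ^ i * vK (up 1) * (H ^ i)⁻¹) U) (by
        simp only [rels, List.mem_append]
        exact Or.inr (List.mem_map.2 ⟨i, hi, rfl⟩))
      simp only [comW, map_mul, map_inv, map_pow, ← hφv] at this
      exact commute_of_word this
  obtain ⟨β, hβ, hβh, hβu, hβz, hβd⟩ := exists_beta C f hδ hδσ hβ₀ W hW hl π φ2 (hπmk H |>.trans htH)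
    (hπmk U |>.trans htU) hπ2 hdg hz cent fun {Q} _ g hg => by
      refine hcomp _ _ fun v hv => ?_
      have e : ∀ (x y : Subgroup.closure (insert h (insert u (Set.range fun k => φ2 (up k))))),
          FreeGroup.lift ![g x, g y] v = g (FreeGroup.lift ![x, y] v) := fun x y =>
        (DFunLike.congr_fun (show g.comp (FreeGroup.lift ![x, y]) = FreeGroup.lift ![g x, g y] from
          FreeGroup.ext_hom _ _ fun i => by fin_cases i <;> simp) v).symm
      rw [e]
      generalize hM : (FreeGroup.lift ![(⟨h, _⟩ : Subgroup.closure (insert h (insert u (Set.range fun k => φ2 (up k))))),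
        ⟨u, _⟩] v) = M
      have hval : (M : PresentedGroup (↑rels.toFinset : Set (FreeGroup (Fin 3)))) = φ2 (up (kk v hv)) := by
        rw [← hR v hv, ← hM]
        exact DFunLike.congr_fun (show (Subgroup.subtype _).comp (FreeGroup.lift ![_, _]) = FreeGroup.lift ![h, u] from
          FreeGroup.ext_hom _ _ fun i => by fin_cases i <;> simp) v
      obtain ⟨M, hMm⟩ := M
      obtain rfl : M = φ2 (up (kk v hv)) := hval
      exact hg _ hMm
  have hι : ∀ v, mk (ι v) = β (FreeGroup.lift ![hB C f W, eB C f 1 β₀] v) := fun v => by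
    rw [hmkι]
    exact (DFunLike.congr_fun (show β.comp (FreeGroup.lift ![hB C f W, eB C f 1 β₀]) = FreeGroup.lift ![h, u] from
      FreeGroup.ext_hom _ _ fun i => by fin_cases i <;> simp [hβh, hβu] <;> rfl) v).symm
  let D : RankOne C f hδ hδσ (PresentedGroup (↑rels.toFinset : Set (FreeGroup (Fin 3)))) :=
    { π := π, β := β, j := mk J, hβ := hβ
      hj := (hπmk J).trans htJ
      jh := fun a => by
        obtain ⟨n, rfl⟩ := hW a
        have h1 := hbase (J * H * J⁻¹ * (H ^ m)⁻¹) (by simp [base])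
        simp only [map_mul, map_inv, map_pow, mul_inv_eq_one] at h1
        rw [map_pow, map_pow, hβh, ← conj_pow, h1, ← hβh, map_pow (Units.map (σ : F →* F)), ← inv_pow, ← hm,
          map_pow (hB C f), map_pow β, map_pow (hB C f), map_pow β]
      j2 := by
        rw [← hj, ← map_mul, jSL_sq, hβd]
        congr 2
      gen := by
        rw [eq_top_iff, ← PresentedGroup.closure_range_of, Subgroup.closure_le]
        rintro _ ⟨i, rfl⟩
        fin_cases i
        · exact Subgroup.subset_closure (Or.inl ⟨_, hβh⟩)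
        · exact Subgroup.subset_closure (Or.inl ⟨_, hβu⟩)
        · exact Subgroup.subset_closure (Or.inr rfl) }
  have hgz : ∀ d : F, Adm C 0 d → d ≠ 0 → D.Good 0 d := fun d hd hd0 => by
    obtain ⟨k, rfl⟩ := exists_fix C hδ hδσ hd
    have hk0 : k ≠ 0 := fun e => hd0 (by simp [e])
    show mk J * β (eB C f 0 ((k : F) * δ)) * mk J ∈ D.Cells
    rw [← zB_apply C f hδσ, hβz, ← hj, ← map_mul, ← map_mul, jSL_up_jSL hk0, map_mul, map_mul, map_mul, hj,
      ← hβz, ← hβz, hβd, mul_assoc (β _ * mk J), ← map_mul]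
    exact Or.inr ⟨_, _, rfl⟩
  have seed : D.Good 1 (1 / (r - 1)) := by
    show mk J * β (eB C f 1 β₀) * mk J ∈ D.Cells
    have h1 := hbase (J * U * J * ws⁻¹) (by simp [base])
    simp only [map_mul, map_inv, mul_inv_eq_one] at h1
    rw [hβu]
    show mk J * mk U * mk J ∈ D.Cells
    rw [h1]
    rcases hwsc with ⟨v, rfl⟩ | ⟨v, v', rfl⟩
    · exact Or.inl ⟨_, hι v⟩
    · exact Or.inr ⟨FreeGroup.lift ![hB C f W, eB C f 1 β₀] v, FreeGroup.lift ![hB C f W, eB C f 1 β₀] v', by
        rw [map_mul, map_mul, hι, hι]⟩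
  exact ⟨_, hasPres_of_iso hrels (MulEquiv.ofBijective π (D.bijective hgz hr1 hrn hrall seed))⟩

/-- The special unitary group of the standard form. -/
theorem su_three_pres {F : Type*} [Field F] [Fintype F] {q : ℕ} (hF : Fintype.card F = q ^ 2) (hq : q ≠ 2) :
    ∃ t : Fin 3 → Cfsg.SU 3 F q, HasPres 3 20 t ⊤ := by
  obtain ⟨σ, hσ, hc⟩ := exists_frob hF
  have C : U3 (stdHerm σ 3) q :=
    ⟨stdHerm_isHermitian hc 3, stdHerm_sepRight 3, Module.finrank_fin_fun F, hF, hσ⟩
  obtain ⟨t, ht⟩ := sIsom_pres C hq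
  obtain ⟨rels, hk, ⟨e⟩⟩ := hasPres_iso ht
  exact ⟨_, hasPres_of_iso hk (e.trans (suEquiv hσ).symm)⟩

end CfsgLib.SU3Pres
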