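import Cfsg.Agent.Lib.KnownA.MinIndexU3.Frame
import Cfsg.Agent.Lib.KnownB.SLPres.TorusUnipotent
import Cfsg.Agent.Lib.KnownB.SUPres.FourRel

/-!
# Elements of a three-dimensional special unitary group in a frame
-/

set_option autoImplicit false
set_option linter.unusedSectionVars false

open Module CfsgLib.Classical CfsgLib.Classical.SUUnipotent CfsgLib.KnownA.MinIndexU3 CfsgLib.Perm.Quad.SL2
open CfsgLib.SLPres CfsgLib.SL2Pres CfsgLib.SUPres Multiplicative

namespace CfsgLib.SU3Pres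

variable {F : Type*} [Field F] [Fintype F] {V : Type*} [AddCommGroup V] [Module F V] [FiniteDimensional F V]
  {σ : F →+* F} {B : V →ₛₗ[σ] V →ₗ[F] F} {q : ℕ} (C : U3 B q) (f : Fr B)

/-- The action of an element. -/
abbrev ap (g : sIsom B) (x : V) : V := g.1.1 x

theorem ap_mul (g k : sIsom B) (x : V) : ap (g * k) x = ap g (ap k x) := rfl

theorem ap_one (x : V) : ap (1 : sIsom B) x = x := rfl

theorem ap_inv_of {g : sIsom B} {x y : V} (h : ap g x = y) : ap g⁻¹ y = x := inv_apply_eq g.1 h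

theorem ap_smul (g : sIsom B) (c : F) (x : V) : ap g (c • x) = c • ap g x := map_smul _ c x

include C

/-- An element is determined on a frame. -/
theorem fr_ext {g k : sIsom B} (hv : ap g f.v = ap k f.v) (hw : ap g f.w = ap k f.w) (hs : ap g f.s = ap k f.s) :
    g = k := by
  refine Subtype.ext (Subtype.ext (LinearEquiv.ext fun x => ?_))
  rw [f.expand C x]
  simp only [map_add, map_smul]
  show _ • ap g f.v + _ • ap g f.w + _ • ap g f.s = _
  rw [hv, hw, hs]

/-- An element with given images of a frame. -/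
theorem exists_elem (v' w' s' : V) (hvv : B v' v' = 0) (hss : B s' s' = 0) (hvs : B v' s' = 1) (hww : B w' w' = 1)
    (hvw : B v' w' = 0) (hsw : B s' w' = 0)
    (hdet : Matrix.det !![B f.s v', B f.s w', B f.s s'; B f.w v', B f.w w', B f.w s';
      B f.v v', B f.v w', B f.v s'] = 1) :
    ∃ g : sIsom B, ap g f.v = v' ∧ ap g f.w = w' ∧ ap g f.s = s' := by
  let L : V →ₗ[F] V := (B f.s).smulRight v' + (B f.w).smulRight w' + (B f.v).smulRight s'
  have hL : ∀ x, L x = B f.s x • v' + B f.w x • w' + B f.v x • s' := fun x => rfl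
  have hv : L f.v = v' := by simp [hL, f.sv C, f.wv C, f.vv]
  have hw : L f.w = w' := by simp [hL, f.sw, f.ww, f.vw]
  have hs : L f.s = s' := by simp [hL, f.ss, f.ws C, f.vs]
  have hsv : B s' v' = 1 := by rw [← C.herm.symm, hvs, map_one]
  have hwv : B w' v' = 0 := C.herm.isRefl _ _ hvw
  have hws : B w' s' = 0 := C.herm.isRefl _ _ hsw
  obtain ⟨g, hg⟩ := C.herm.exists_of_preserving C.sep L fun x y => by
    conv_rhs => rw [f.expand C x, f.expand C y]
    simp only [hL, map_add, map_smul, map_smulₛₗ, LinearMap.add_apply, LinearMap.smul_apply, smul_eq_mul, hvv, hss,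
      hvs, hww, hvw, hsw, hsv, hwv, hws, f.vv, f.vw, f.vs, f.wv C, f.ww, f.ws C, f.sv C, f.sw, f.ss]
  have hd : idet B g = 1 := by rw [f.det_eq C, hg, hg, hg, hv, hw, hs]; exact hdet
  exact ⟨⟨g, MonoidHom.mem_ker.2 hd⟩, (hg _).trans hv, (hg _).trans hw, (hg _).trans hs⟩

/-- The admissible parameters of root elements. -/
def Adm (_C : U3 B q) (t c : F) : Prop := c + σ c = -(σ t * t)

theorem exists_eEl {t c : F} (h : Adm C t c) : ∃ g : sIsom B, ap g f.v = f.v ∧ ap g f.w = f.w - σ t • f.v ∧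
    ap g f.s = f.s + t • f.w + c • f.v := by
  have h' : c + σ c = -(σ t * t) := h
  refine exists_elem C f _ _ _ ?_ ?_ ?_ ?_ ?_ ?_ ?_
  all_goals simp [f.vv, f.vw, f.vs, f.wv C, f.ww, f.ws C, f.sv C, f.sw, f.ss, Matrix.det_fin_three,
    C.herm.conj.invol]
  all_goals linear_combination h'

/-- The root elements. -/
noncomputable def eEl (t c : F) : sIsom B :=
  haveI := _root_.Classical.propDecidable (Adm C t c)
  if h : Adm C t c then (exists_eEl C f h).choose else 1

theorem eEl_apply {t c : F} (h : Adm C t c) : ap (eEl C f t c) f.v = f.v ∧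
    ap (eEl C f t c) f.w = f.w - σ t • f.v ∧ ap (eEl C f t c) f.s = f.s + t • f.w + c • f.v := by
  rw [eEl, dif_pos h]
  exact (exists_eEl C f h).choose_spec

theorem adm_add {t c t' c' : F} (h : Adm C t c) (h' : Adm C t' c') : Adm C (t + t') (c + c' - σ t * t') := by
  unfold Adm at *
  simp only [map_add, map_sub, map_mul, C.herm.conj.invol]
  linear_combination h + h'

theorem eEl_mul {t c t' c' : F} (h : Adm C t c) (h' : Adm C t' c') :
    eEl C f t c * eEl C f t' c' = eEl C f (t + t') (c + c' - σ t * t') := by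
  obtain ⟨a, b, d⟩ := eEl_apply C f h
  obtain ⟨a', b', d'⟩ := eEl_apply C f h'
  obtain ⟨a'', b'', d''⟩ := eEl_apply C f (adm_add C h h')
  refine fr_ext C f ?_ ?_ ?_
  · rw [ap_mul, a', a, a'']
  · rw [ap_mul, b', b'', ap, map_sub, map_smul]
    show ap _ f.w - σ t' • ap _ f.v = _
    rw [a, b, map_add]
    module
  · rw [ap_mul, d', d'', ap, map_add, map_add, map_smul, map_smul]
    show ap _ f.s + t' • ap _ f.w + c' • ap _ f.v = _
    rw [a, b, d]
    module

theorem adm_zero : Adm C 0 0 := by simp [Adm]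

theorem eEl_zero : eEl C f 0 0 = 1 := by
  obtain ⟨a, b, d⟩ := eEl_apply C f (adm_zero C)
  exact fr_ext C f (a.trans (ap_one _).symm) (b.trans (by simp [ap])) (d.trans (by simp [ap]))

theorem adm_neg {t c : F} (h : Adm C t c) : Adm C (-t) (σ c) := by
  unfold Adm at *
  rw [C.herm.conj.invol, map_neg]
  linear_combination h

theorem eEl_inv {t c : F} (h : Adm C t c) : (eEl C f t c)⁻¹ = eEl C f (-t) (σ c) := by
  refine inv_eq_of_mul_eq_one_right ?_
  rw [eEl_mul C f h (adm_neg C h), add_neg_cancel, show c + σ c - σ t * -t = 0 by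
    have h' : c + σ c = -(σ t * t) := h
    linear_combination h', eEl_zero]

theorem exists_hEl (a : Fˣ) : ∃ g : sIsom B, ap g f.v = (a : F) • f.v ∧
    ap g f.w = (σ a / (a : F)) • f.w ∧ ap g f.s = (σ (a : F))⁻¹ • f.s := by
  have ha : (a : F) ≠ 0 := a.ne_zero
  have hs : σ (a : F) ≠ 0 := sigma_ne_zero C ha
  refine exists_elem C f _ _ _ ?_ ?_ ?_ ?_ ?_ ?_ ?_
  all_goals simp [f.vv, f.vw, f.vs, f.wv C, f.ww, f.ws C, f.sv C, f.sw, f.ss, Matrix.det_fin_three,
    C.herm.conj.invol]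
  all_goals field_simp

/-- The torus. -/
noncomputable def hEl (a : Fˣ) : sIsom B := (exists_hEl C f a).choose

theorem hEl_apply (a : Fˣ) : ap (hEl C f a) f.v = (a : F) • f.v ∧
    ap (hEl C f a) f.w = (σ a / (a : F)) • f.w ∧ ap (hEl C f a) f.s = (σ (a : F))⁻¹ • f.s :=
  (exists_hEl C f a).choose_spec

/-- The torus as a homomorphism. -/
noncomputable def hHom : Fˣ →* sIsom B := MonoidHom.mk' (hEl C f) fun a b => by
  obtain ⟨x, y, z⟩ := hEl_apply C f a
  obtain ⟨x', y', z'⟩ := hEl_apply C f b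
  obtain ⟨x'', y'', z''⟩ := hEl_apply C f (a * b)
  refine fr_ext C f ?_ ?_ ?_
  · rw [ap_mul, x', x'', ap_smul, x, smul_smul, Units.val_mul, mul_comm]
  · rw [ap_mul, y', y'', ap_smul, y, smul_smul, Units.val_mul, map_mul]
    congr 1
    field_simp
  · rw [ap_mul, z', z'', ap_smul, z, smul_smul, Units.val_mul, map_mul, mul_inv, mul_comm]

theorem hHom_apply (a : Fˣ) : hHom C f a = hEl C f a := rfl

/-- The multiplier of the torus on the root parameters. -/
def lamM (σ : F →+* F) (a : F) : F := σ a * σ a / a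

omit C in
theorem lamM_mul (a b : F) : lamM σ (a * b) = lamM σ a * lamM σ b := by
  simp only [lamM, map_mul, div_mul_div_comm]
  ring

omit C in
theorem lamM_one : lamM σ (1 : F) = 1 := by simp [lamM]

theorem lamM_norm {a : F} (ha : a ≠ 0) : σ (lamM σ a) * lamM σ a = a * σ a := by
  have hs := sigma_ne_zero C ha
  simp only [lamM, map_div₀, map_mul, C.herm.conj.invol]
  field_simp

theorem adm_scale {t c : F} (h : Adm C t c) (a : Fˣ) : Adm C (lamM σ a * t) ((a : F) * σ a * c) := by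
  unfold Adm at *
  have hn := lamM_norm C a.ne_zero
  rw [map_mul, map_mul, map_mul, C.herm.conj.invol]
  linear_combination (a : F) * σ a * h + (σ t * t) * hn

theorem hEl_conj {t c : F} (h : Adm C t c) (a : Fˣ) :
    hEl C f a * eEl C f t c * (hEl C f a)⁻¹ = eEl C f (lamM σ a * t) ((a : F) * σ a * c) := by
  rw [mul_inv_eq_iff_eq_mul]
  obtain ⟨x, y, z⟩ := hEl_apply C f a
  obtain ⟨u, v, w⟩ := eEl_apply C f h
  obtain ⟨u', v', w'⟩ := eEl_apply C f (adm_scale C h a)
  have ha : (a : F) ≠ 0 := a.ne_zero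
  have hs := sigma_ne_zero C ha
  refine fr_ext C f ?_ ?_ ?_
  · rw [ap_mul, ap_mul, u, x, ap_smul, u']
  · rw [ap_mul, ap_mul, v, y, ap_smul, v', ap, map_sub, map_smul]
    show ap _ f.w - σ t • ap _ f.v = _
    rw [x, y]
    match_scalars
    · ring
    · simp only [lamM, map_mul, map_div₀, C.herm.conj.invol]
      field_simp
  · rw [ap_mul, ap_mul, w, z, ap_smul, w', ap, map_add, map_add, map_smul, map_smul]
    show ap _ f.s + t • ap _ f.w + c • ap _ f.v = _
    rw [x, y, z]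
    match_scalars
    · ring
    · simp only [lamM]
      field_simp
    · field_simp

variable {δ : F} (hδ : δ ≠ 0) (hδσ : σ δ = -δ)
include hδ hδσ

theorem exists_lEl (z : SL (fixK σ)) : ∃ g : sIsom B,
    ap g f.v = (z.1 0 0 : F) • f.v + ((z.1 1 0 : F) / δ) • f.s ∧ ap g f.w = f.w ∧
    ap g f.s = ((z.1 0 1 : F) * δ) • f.v + (z.1 1 1 : F) • f.s := by
  have hz : ∀ i j, σ (z.1 i j : F) = z.1 i j := fun i j => (z.1 i j).2
  have hd : (z.1 0 0 : F) * z.1 1 1 - z.1 0 1 * z.1 1 0 = 1 := by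
    have := congrArg (fun x : fixK σ => (x : F)) (det2 z)
    simpa using this
  refine exists_elem C f _ _ _ ?_ ?_ ?_ ?_ ?_ ?_ ?_
  all_goals simp [f.vv, f.vw, f.vs, f.wv C, f.ww, f.ws C, f.sv C, f.sw, f.ss, Matrix.det_fin_three, hz, hδσ]
  all_goals field_simp
  all_goals first | ring1 | linear_combination hd

/-- The element of the unitary group on the isotropic plane. -/
noncomputable def lEl (z : SL (fixK σ)) : sIsom B := (exists_lEl C f hδ hδσ z).choose

theorem lEl_apply (z : SL (fixK σ)) :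
    ap (lEl C f hδ hδσ z) f.v = (z.1 0 0 : F) • f.v + ((z.1 1 0 : F) / δ) • f.s ∧
    ap (lEl C f hδ hδσ z) f.w = f.w ∧
    ap (lEl C f hδ hδσ z) f.s = ((z.1 0 1 : F) * δ) • f.v + (z.1 1 1 : F) • f.s :=
  (exists_lEl C f hδ hδσ z).choose_spec

/-- The special linear group over the fixed field inside the unitary group. -/
noncomputable def lHom : SL (fixK σ) →* sIsom B := MonoidHom.mk' (lEl C f hδ hδσ) fun y z => by
  obtain ⟨a, b, c⟩ := lEl_apply C f hδ hδσ y
  obtain ⟨a', b', c'⟩ := lEl_apply C f hδ hδσ z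
  obtain ⟨a'', b'', c''⟩ := lEl_apply C f hδ hδσ (y * z)
  refine fr_ext C f ?_ ?_ ?_
  · rw [ap_mul, a', a'', ap, map_add, map_smul, map_smul]
    show _ = (z.1 0 0 : F) • ap _ f.v + _ • ap _ f.s
    rw [a, c, mul_apply2, mul_apply2]
    push_cast
    match_scalars <;> field_simp
  · rw [ap_mul, b', b, b'']
  · rw [ap_mul, c', c'', ap, map_add, map_smul, map_smul]
    show _ = _ • ap _ f.v + _ • ap _ f.s
    rw [a, c, mul_apply2, mul_apply2]
    push_cast
    match_scalars <;> field_simp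

/-- The Weyl element. -/
noncomputable abbrev jEl : sIsom B := lHom C f hδ hδσ jSL

theorem jEl_apply : ap (jEl C f hδ hδσ) f.v = (-δ⁻¹) • f.s ∧ ap (jEl C f hδ hδσ) f.w = f.w ∧
    ap (jEl C f hδ hδσ) f.s = δ • f.v := by
  obtain ⟨a, b, c⟩ := lEl_apply C f hδ hδσ jSL
  refine ⟨a.trans ?_, b, c.trans ?_⟩ <;> simp [jSL_coe, div_eq_mul_inv]

theorem lHom_up (t : fixK σ) : lHom C f hδ hδσ (up t) = eEl C f 0 ((t : F) * δ) := by
  have h : Adm C 0 ((t : F) * δ) := by
    show _ = _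
    rw [map_mul, show σ (t : F) = t from t.2, hδσ]
    simp
  obtain ⟨a, b, c⟩ := eEl_apply C f h
  obtain ⟨a', b', c'⟩ := lEl_apply C f hδ hδσ (up t)
  refine fr_ext C f (a'.trans (Eq.trans ?_ a.symm)) (b'.trans (Eq.trans ?_ b.symm)) (c'.trans (Eq.trans ?_ c.symm))
  · simp [up_val]
  · simp
  · simp [up_val, add_comm]

theorem lHom_dg {k : fixK σ} (hk : k ≠ 0) :
    lHom C f hδ hδσ (dg k hk) = hEl C f (Units.mk0 (k : F) (Subtype.coe_injective.ne hk)) := by
  obtain ⟨a', b', c'⟩ := lEl_apply C f hδ hδσ (dg k hk)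
  obtain ⟨a, b, c⟩ := hEl_apply C f (Units.mk0 (k : F) (Subtype.coe_injective.ne hk))
  refine fr_ext C f (a'.trans (Eq.trans ?_ a.symm)) (b'.trans (Eq.trans ?_ b.symm)) (c'.trans (Eq.trans ?_ c.symm))
  · simp [dg_val]
  · simp [show σ (k : F) = k from k.2, hk]
  · simp [dg_val, show σ (k : F) = k from k.2]

theorem jEl_hEl (a : Fˣ) :
    jEl C f hδ hδσ * hEl C f a * (jEl C f hδ hδσ)⁻¹ = hEl C f (Units.map (σ : F →* F) a)⁻¹ := by
  rw [mul_inv_eq_iff_eq_mul]
  obtain ⟨x, y, z⟩ := hEl_apply C f a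
  obtain ⟨x', y', z'⟩ := hEl_apply C f (Units.map (σ : F →* F) a)⁻¹
  obtain ⟨u, v, w⟩ := jEl_apply C f hδ hδσ
  have ha : (a : F) ≠ 0 := a.ne_zero
  have hs := sigma_ne_zero C ha
  refine fr_ext C f ?_ ?_ ?_
  · rw [ap_mul, ap_mul, x, u, ap_smul, u, ap_smul, z', smul_smul, smul_smul]
    congr 1
    simp [C.herm.conj.invol, mul_comm]
  · rw [ap_mul, ap_mul, y, v, ap_smul, v, y']
    congr 1
    simp [C.herm.conj.invol]
    field_simp
  · rw [ap_mul, ap_mul, z, w, ap_smul, w, ap_smul, x', smul_smul, smul_smul]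
    congr 1
    simp [mul_comm]

end CfsgLib.SU3Pres
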