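import Cfsg.Agent.Lib.KnownB.SU3Pres.Borel
import Cfsg.Agent.Lib.KnownB.SU3Pres.Lattice
import Cfsg.Agent.Lib.KnownB.Pres.Words

/-!
# Tools for finding relations of the Borel subgroup
-/

set_option autoImplicit false
set_option linter.unusedSectionVars false

open Module CfsgLib.Classical CfsgLib.Classical.SUUnipotent CfsgLib.KnownA.MinIndexU3 CfsgLib.Perm.Quad.SL2
open CfsgLib.SLPres CfsgLib.SL2Pres CfsgLib.SUPres Multiplicative

namespace CfsgLib.SU3Pres

section Words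

variable {P : Type*} [Group P]

theorem commute_of_word {x y : P} (e : x * y * x⁻¹ * y⁻¹ = 1) : Commute x y := by
  rw [mul_inv_eq_one, mul_inv_eq_iff_eq_mul] at e
  exact e

theorem word_of_commute {x y : P} (e : Commute x y) : x * y * x⁻¹ * y⁻¹ = 1 := by
  rw [mul_inv_eq_one, mul_inv_eq_iff_eq_mul]
  exact e.eq

variable {L : Type*} [Field L]

theorem commute_hom (φ : Multiplicative L →* P) (x y : L) : Commute (φ (ofAdd x)) (φ (ofAdd y)) := by
  show _ = _
  rw [← map_mul φ, ← map_mul φ, mul_comm]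

/-- Powers act by the powers of the multiplier. -/
theorem pow_act {h : P} (φ : Multiplicative L →* P) {l : L}
    (e : ∀ y, h * φ (ofAdd y) * h⁻¹ = φ (ofAdd (l * y))) (i : ℕ) (y : L) :
    h ^ i * φ (ofAdd y) * (h ^ i)⁻¹ = φ (ofAdd (l ^ i * y)) := by
  induction i with
  | zero => simp
  | succ n ih =>
    calc h ^ (n + 1) * φ (ofAdd y) * (h ^ (n + 1))⁻¹ = h * (h ^ n * φ (ofAdd y) * (h ^ n)⁻¹) * h⁻¹ := by
          rw [pow_succ', _root_.mul_inv_rev]; simp only [mul_assoc]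
      _ = _ := by rw [ih, e, pow_succ', mul_assoc]

variable {p : ℕ} [Fact p.Prime] [Algebra (ZMod p) L]

/-- Two equivariant homomorphisms agree once they agree at one. -/
theorem equiv_ext (pb : PowerBasis (ZMod p) L) {a : P} {φ ψ : Multiplicative L →* P}
    (h1 : φ (ofAdd 1) = ψ (ofAdd 1)) (hφ : ∀ y, a * φ (ofAdd y) * a⁻¹ = φ (ofAdd (pb.gen * y)))
    (hψ : ∀ y, a * ψ (ofAdd y) * a⁻¹ = ψ (ofAdd (pb.gen * y))) : φ = ψ := by
  refine hom_ext (pb := pb) _ _ fun i => ?_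
  generalize (i : ℕ) = n
  induction n with
  | zero => simpa using h1
  | succ n ih => rw [pow_succ', ← hφ, ← hψ, ih]

/-- A homomorphism from the relations of the lattice. -/
theorem exists_lat_hom (pb : PowerBasis (ZMod p) L) {u a b : P} (hab : Commute a b) (hup : u ^ p = 1)
    (hb : b * u * b⁻¹ = u * (a * u * a⁻¹)) (hc : Commute u (a * u * a⁻¹))
    (htop : a ^ pb.dim * u * (a ^ pb.dim)⁻¹ = wordOn pb u a (pb.gen ^ pb.dim)) :
    ∃ φ : Multiplicative L →* P, φ (ofAdd 1) = u ∧ (∀ y, a * φ (ofAdd y) * a⁻¹ = φ (ofAdd (pb.gen * y))) ∧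
      ∀ y, φ (ofAdd y) = wordOn pb u a y := by
  have hall := lattice_commute hab hb (c := 1) (by rw [hb, mul_one]) (fun _ _ => Commute.one_left _)
    (Commute.refl u) hc
  have key : ∀ i d : ℕ, Commute (a ^ i * u * (a ^ i)⁻¹) (a ^ (i + d) * u * (a ^ (i + d))⁻¹) := fun i d => by
    have h2 := hall (d : ℤ) 0
    simp only [lat, zpow_zero, mul_one, zpow_natCast, MulAut.conj_apply] at h2
    have := (Commute.conj_iff (a ^ i)).2 h2
    simpa [pow_add, _root_.mul_inv_rev, mul_assoc] using this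
  refine exists_hom hup (fun i j _ => ?_) htop
  rcases le_total (i : ℕ) j with h | h
  · simpa [Nat.add_sub_cancel' h] using key i ((j : ℕ) - i)
  · simpa [Nat.add_sub_cancel' h] using (key j ((i : ℕ) - j)).symm

/-- The central relations at all points from two of them. -/
theorem cent_all {h u : P} (z : Multiplicative L →* P) {N : L}
    (hz : ∀ k, h * z (ofAdd k) * h⁻¹ = z (ofAdd (N * k))) (hN0 : N ≠ 0) {i i' : ℕ} (hN : N ^ i' = 1 + N ^ i)
    (htop : Algebra.adjoin (ZMod p) ({N ^ i} : Set L) = ⊤)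
    (hbu : (u * (h ^ i * u * (h ^ i)⁻¹))⁻¹ * (h ^ i' * u * (h ^ i')⁻¹) ∈ z.range)
    (h0 : Commute u (z (ofAdd 1))) (h1 : Commute u (h ^ i * z (ofAdd 1) * (h ^ i)⁻¹)) (k : L) :
    Commute (z (ofAdd k)) u := by
  set a := h ^ i
  set b := h ^ i'
  have hab : Commute a b := (Commute.refl h).pow_pow _ _
  have hv : b * z (ofAdd 1) * b⁻¹ = z (ofAdd 1) * (a * z (ofAdd 1) * a⁻¹) := by
    rw [pow_act z hz, pow_act z hz, mul_one, mul_one, hN, ofAdd_add, map_mul]
  obtain ⟨c0, hc0⟩ := hbu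
  have hmem : ∀ m n : ℤ, lat a b (z (ofAdd 1)) m n ∈ Subgroup.centralizer {z c0} := by
    intro m n
    have hn : ∀ (m : ℤ) (k : L), ∃ k', h ^ m * z (ofAdd k) * (h ^ m)⁻¹ = z (ofAdd k') := by
      intro m
      obtain ⟨n, rfl | rfl⟩ := Int.eq_nat_or_neg m
      · exact fun k => ⟨N ^ n * k, by rw [zpow_natCast, pow_act z hz]⟩
      · refine fun k => ⟨(N ^ n)⁻¹ * k, ?_⟩
        conv_lhs => rw [show k = N ^ n * ((N ^ n)⁻¹ * k) by rw [mul_inv_cancel_left₀ (pow_ne_zero n hN0)],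
          ← pow_act z hz]
        rw [zpow_neg, zpow_natCast]
        group
    obtain ⟨k', e⟩ := hn ((i : ℤ) * m + (i' : ℤ) * n) 1
    rw [Subgroup.mem_centralizer_singleton_iff, lat, show a ^ m * b ^ n = h ^ ((i : ℤ) * m + (i' : ℤ) * n) by
      rw [zpow_add, zpow_mul, zpow_mul, zpow_natCast, zpow_natCast], MulAut.conj_apply, e]
    exact ((commute_hom z k' c0.toAdd).eq)
  have hall := lattice_commute hab hv (u := u) (c := z c0) (by rw [hc0, mul_inv_cancel_left])
    (fun m n => (Subgroup.mem_centralizer_singleton_iff.1 (hmem m n)).symm) h0 h1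
  let S : AddSubgroup L :=
    { carrier := {k | ∀ m : ℕ, Commute (z (ofAdd ((N ^ i) ^ m * k))) u}
      zero_mem' := fun m => by simp
      add_mem' := fun {x y} hx hy m => by rw [mul_add, ofAdd_add, map_mul]; exact (hx m).mul_left (hy m)
      neg_mem' := fun {x} hx m => by rw [mul_neg, ofAdd_neg, map_inv]; exact (hx m).inv_left }
  have hS1 : (1 : L) ∈ S := fun m => by
    have := hall (m : ℤ) 0
    rw [lat, zpow_zero, mul_one, zpow_natCast, MulAut.conj_apply, show a ^ m = h ^ (i * m) by rw [pow_mul],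
      pow_act z hz, pow_mul] at this
    exact this.symm
  have hm : ∀ x ∈ Algebra.adjoin (ZMod p) ({N ^ i} : Set L), ∀ k ∈ S, x * k ∈ S := fun x hx => by
    induction hx using Algebra.adjoin_induction with
    | mem y hy =>
      obtain rfl : y = N ^ i := hy
      exact fun k hk m => by rw [← mul_assoc, ← pow_succ]; exact hk (m + 1)
    | algebraMap c =>
      intro k hk
      rw [← ZMod.natCast_zmod_val c, map_natCast, ← nsmul_eq_mul]
      exact S.nsmul_mem hk _
    | add x y _ _ ihx ihy => exact fun k hk => by rw [add_mul]; exact S.add_mem (ihx k hk) (ihy k hk)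
    | mul x y _ _ ihx ihy => exact fun k hk => by rw [mul_assoc]; exact ihx _ (ihy k hk)
  have := hm k (htop.ge Algebra.mem_top) 1 hS1 0
  simpa using this

end Words

variable {F : Type*} [Field F] [Fintype F] {V : Type*} [AddCommGroup V] [Module F V] [FiniteDimensional F V]
  {σ : F →+* F} {B : V →ₛₗ[σ] V →ₗ[F] F} {q : ℕ} (C : U3 B q) (f : Fr B) {δ : F} (hδ : δ ≠ 0) (hδσ : σ δ = -δ)
  {β₀ : F} (hβ₀ : Adm C 1 β₀) (W : Fˣ)

/-- Words in a torus element and a root element presenting the Borel subgroup up to trace zero elements. -/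
def Spec (β₀ : F) (R : List (FreeGroup (Fin 2))) (Cl : List ℕ) : Prop :=
  (∀ r ∈ R, FreeGroup.lift ![hB C f W, eB C f 1 β₀] r ∈ (zB C f hδσ).range) ∧
  (∀ {Q : Type} [Group Q] (h u : Q), (∀ r ∈ R, FreeGroup.lift ![h, u] r = 1) →
    ∃ Ψ : Multiplicative F →* Q, Ψ (ofAdd 1) = u ∧
      ∀ y, h * Ψ (ofAdd y) * h⁻¹ = Ψ (ofAdd (lamM σ (W : F) * y))) ∧
  (∀ {P : Type} [Group P] (h u : P) (z : Multiplicative (fixK σ) →* P),
    (∀ k, h * z (ofAdd k) * h⁻¹ = z (ofAdd (nK C.herm.conj (W : F) * k))) →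
    (∀ r ∈ R, FreeGroup.lift ![h, u] r ∈ z.range) →
    (∀ i ∈ Cl, Commute (h ^ i * z (ofAdd 1) * (h ^ i)⁻¹) u) → ∀ k, Commute (z (ofAdd k)) u)

include C

theorem eB_zB_comm {t c : F} (h : Adm C t c) (k : fixK σ) : Commute (eB C f t c) (zB C f hδσ (ofAdd k)) := by
  show _ * _ = _ * _
  rw [zB_apply, eB_mul C f h (adm_fix C hδσ k), eB_mul C f (adm_fix C hδσ k) h]
  congr 1 <;> simp [add_comm]

instance zB_normal : (zB C f hδσ).range.Normal := ⟨fun n hn g => by
  obtain ⟨k, rfl⟩ := hn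
  obtain ⟨t, c, a, h, rfl⟩ := borel_eq C f g
  refine ⟨ofAdd (nK C.herm.conj (a : F) * k.toAdd), ?_⟩
  rw [← zB_conj C f hδσ a k.toAdd, ofAdd_toAdd]
  calc hB C f a * zB C f hδσ k * (hB C f a)⁻¹
      = eB C f t c * (hB C f a * zB C f hδσ k * (hB C f a)⁻¹) * (eB C f t c)⁻¹ := by
        rw [← ofAdd_toAdd k, zB_conj C f hδσ, (eB_zB_comm C f hδσ h _).eq, mul_inv_cancel_right]
    _ = _ := by simp only [_root_.mul_inv_rev, mul_assoc]⟩

include hδ hβ₀ in
/-- The root elements modulo those of trace zero. -/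
theorem quot_hom : ∃ Ψ : Multiplicative F →* borel f C ⧸ (zB C f hδσ).range,
    Ψ (ofAdd 1) = QuotientGroup.mk' _ (eB C f 1 β₀) ∧
    ∀ y, QuotientGroup.mk' _ (hB C f W) * Ψ (ofAdd y) * (QuotientGroup.mk' _ (hB C f W))⁻¹ =
      Ψ (ofAdd (lamM σ (W : F) * y)) := by
  have same : ∀ (t c c' : F), Adm C t c → Adm C t c' →
      QuotientGroup.mk' (zB C f hδσ).range (eB C f t c) = QuotientGroup.mk' _ (eB C f t c') := by
    intro t c c' h h'
    obtain ⟨k, e⟩ := eB_shift C f hδ hδσ h h'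
    rw [e, map_mul, show QuotientGroup.mk' (zB C f hδσ).range (zB C f hδσ (ofAdd k)) = 1 from
      (QuotientGroup.eq_one_iff _).2 ⟨_, rfl⟩, mul_one]
  refine ⟨MonoidHom.mk' (fun t => QuotientGroup.mk' _ (eB C f t.toAdd (β₀ * (σ t.toAdd * t.toAdd)))) fun a b => ?_,
    ?_, fun y => ?_⟩
  · rw [← map_mul, eB_mul C f (adm_sel C hβ₀ _) (adm_sel C hβ₀ _)]
    exact same _ _ _ (adm_sel C hβ₀ _) (adm_add C (adm_sel C hβ₀ _) (adm_sel C hβ₀ _))
  · show QuotientGroup.mk' _ (eB C f 1 (β₀ * (σ 1 * 1))) = _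
    simp
  · show QuotientGroup.mk' _ (hB C f W) * QuotientGroup.mk' _ (eB C f y _) * _ = _
    simp only [toAdd_ofAdd]
    rw [← map_inv, ← map_mul, ← map_mul, hB_conj C f (adm_sel C hβ₀ y)]
    exact same _ _ _ (adm_scale C (adm_sel C hβ₀ y) W) (adm_sel C hβ₀ _)

/-- Membership from vanishing in the quotient. -/
theorem mem_of_quot {r : FreeGroup (Fin 2)}
    (h : FreeGroup.lift ![QuotientGroup.mk' (zB C f hδσ).range (hB C f W),
      QuotientGroup.mk' (zB C f hδσ).range (eB C f 1 β₀)] r = 1) :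
    FreeGroup.lift ![hB C f W, eB C f 1 β₀] r ∈ (zB C f hδσ).range := by
  rw [← QuotientGroup.eq_one_iff]
  refine Eq.trans ?_ h
  exact DFunLike.congr_fun (show (QuotientGroup.mk' (zB C f hδσ).range).comp (FreeGroup.lift ![hB C f W, eB C f 1 β₀]) =
    FreeGroup.lift ![QuotientGroup.mk' (zB C f hδσ).range (hB C f W), QuotientGroup.mk' _ (eB C f 1 β₀)] from
    FreeGroup.ext_hom _ _ fun i => by fin_cases i <;> simp) r

end CfsgLib.SU3Pres
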